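import Cfsg.Agent.PrimeGraphU34.Data
import Mathlib.Algebra.Field.MinimalAxioms
import Mathlib.Tactic.DeriveFintype
import Mathlib.Data.Fintype.Card

/-! The field with sixteen elements, by tables on natural numbers. -/

set_option autoImplicit false
set_option maxRecDepth 100000
set_option Elab.async false

namespace Cfsg.Agent.PrimeGraphU34

/-- Addition of codes. -/
def gadd (a b : Nat) : Nat := Nat.xor (a % 16) (b % 16)

/-- Multiplication of codes. -/
def gmul (a b : Nat) : Nat := mulTable.getD (a % 16 * 16 + b % 16) 0

/-- The elements, by codes. -/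
structure F16 where
  /-- The code. -/
  val : Fin 16
  deriving DecidableEq, Fintype

namespace F16

/-- The element with the given code. -/
def of (n : Nat) : F16 := ⟨⟨n % 16, Nat.mod_lt _ (by decide)⟩⟩

instance : Add F16 := ⟨fun a b => of (gadd a.val b.val)⟩
instance : Mul F16 := ⟨fun a b => of (gmul a.val b.val)⟩
instance : Zero F16 := ⟨of 0⟩
instance : One F16 := ⟨of 1⟩
instance : Neg F16 := ⟨fun x => x⟩

instance : Inv F16 := ⟨fun a =>
  let b := a * a
  let c := b * b
  b * c * (c * c)⟩

instance instField : Field F16 :=
  Field.ofMinimalAxioms F16 (by decide +kernel) (by decide +kernel) (by decide +kernel)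
    (by decide +kernel) (by decide +kernel) (by decide +kernel) (by decide +kernel)
    (by decide +kernel) (by decide +kernel) ⟨of 0, of 1, by decide +kernel⟩

theorem card_eq : Fintype.card F16 = 16 := by decide +kernel

theorem of_zero : of 0 = 0 := rfl

theorem of_gadd (a b : Nat) : of (gadd a b) = of a + of b := by
  show of (gadd a b) = of (gadd (a % 16) (b % 16))
  simp [gadd]

theorem of_gmul (a b : Nat) : of (gmul a b) = of a * of b := by
  show of (gmul a b) = of (gmul (a % 16) (b % 16))
  simp [gmul]

theorem add_pow_four : ∀ a b : F16, (a + b) ^ 4 = a ^ 4 + b ^ 4 := by decide +kernel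

end F16

end Cfsg.Agent.PrimeGraphU34
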