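import Cfsg.Agent.PrimeGraphU34.Pairs

/-! Kernel checks of the closing equations. -/

set_option autoImplicit false
set_option maxRecDepth 100000
set_option Elab.async false

namespace Cfsg.Agent.PrimeGraphU34

theorem ok_topGens : topGens.all ok = true := by decide +kernel
theorem ok_lowGens : lowGens.all ok = true := by decide +kernel
theorem ok_R0 : R0.all ok = true := by decide +kernel
theorem ok_R1 : R1.all ok = true := by decide +kernel
theorem ok_R2 : R2.all ok = true := by decide +kernel
theorem ok_R3 : R3.all ok = true := by decide +kernel

theorem low_words : ((List.range lowGens.length).all fun i =>
    decide (pev topGens (lowWords.getD i []) = pget lowGens i)) = true := by decide +kernel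

theorem par0 : chkPar R0 lowGens P0 = true := by decide +kernel
theorem par1 : chkPar R1 lowGens P1 = true := by decide +kernel
theorem par2 : chkPar R2 lowGens P2 = true := by decide +kernel
theorem par3 : chkPar R3 topGens P3 = true := by decide +kernel

theorem close0 : chkClose [] R0 (lowGens.take 2) C0 = true := by decide +kernel
theorem close1 : chkClose [R0] R1 (lowGens.take 6) C1 = true := by decide +kernel
theorem close2 : chkClose [R0, R1] R2 lowGens C2 = true := by decide +kernel
theorem close3 : chkClose [R0, R1, R2] R3 topGens C3 = true := by decide +kernel

/-- The parents of the lower transversals only use the generators of their level. -/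
theorem par_take : chkPar R0 (lowGens.take 2) P0 = true ∧ chkPar R1 (lowGens.take 6) P1 = true := by
  decide +kernel

end Cfsg.Agent.PrimeGraphU34
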