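import Cfsg.Agent.PrimeGraphU34.Certs

/-! The certified pairs are covered by the products over the four transversals. -/

set_option autoImplicit false
set_option maxRecDepth 100000

namespace Cfsg.Agent.PrimeGraphU34

/-- The monoid of certified pairs. -/
abbrev M : Submonoid X := gen topGens

theorem low_mem : ∀ p ∈ lowGens, val p ∈ M := by
  intro p hp
  obtain ⟨i, hi, rfl⟩ := List.getElem_of_mem hp
  have h : pev topGens (lowWords.getD i []) = pget lowGens i :=
    of_decide_eq_true (List.all_eq_true.1 low_words i (List.mem_range.2 hi))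
  rw [pget, List.getD_eq_getElem _ _ hi] at h
  rw [← h]
  exact (val_pev ok_topGens (fun p hp => val_mem_gen hp) _).2

theorem R_mem : ∀ r ∈ R0 ++ R1 ++ R2 ++ R3, val r ∈ M := by
  have low := low_mem
  have top : ∀ p ∈ topGens, val p ∈ M := fun p hp => val_mem_gen hp
  intro r hr
  simp only [List.mem_append] at hr
  rcases hr with ((h | h) | h) | h
  · exact val_mem_of_chkPar ok_R0 ok_lowGens low par0 r h
  · exact val_mem_of_chkPar ok_R1 ok_lowGens low par1 r h
  · exact val_mem_of_chkPar ok_R2 ok_lowGens low par2 r h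
  · exact val_mem_of_chkPar ok_R3 ok_topGens top par3 r h

/-- Every element of `M` is a product over the four transversals. -/
theorem M_cover : ∀ x ∈ M, ∃ i ∈ R0, ∃ j ∈ R1, ∃ k ∈ R2, ∃ l ∈ R3,
    x = val i * val j * val k * val l := by
  have h0 : ∀ x ∈ gen (lowGens.take 2), ∃ i ∈ R0, x = val i := by
    intro x hx
    obtain ⟨c, hc, r, hr, rfl⟩ := level (A := ⊥) (by simp) ok_R0 (all_take ok_lowGens 2)
      (by decide +kernel) (by decide +kernel) close0 x hx
    exact ⟨r, hr, by rw [Submonoid.mem_bot.1 hc, one_mul]⟩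
  have m0 : ∀ r ∈ R0, val r ∈ gen (lowGens.take 2) :=
    val_mem_of_chkPar ok_R0 (all_take ok_lowGens 2) (fun p hp => val_mem_gen hp) par_take.1
  have h1 : ∀ x ∈ gen (lowGens.take 6), ∃ i ∈ R0, ∃ j ∈ R1, x = val i * val j := by
    intro x hx
    obtain ⟨c, hc, r, hr, rfl⟩ := level (A := gen (lowGens.take 2))
      (fun L hL => by rw [List.mem_singleton] at hL; subst hL; exact ⟨ok_R0, m0⟩) ok_R1
      (all_take ok_lowGens 6) (by decide +kernel) (by decide +kernel) close1 x hx
    obtain ⟨i, hi, rfl⟩ := h0 c hc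
    exact ⟨i, hi, r, hr, rfl⟩
  have m1 : ∀ r ∈ R1, val r ∈ gen (lowGens.take 6) :=
    val_mem_of_chkPar ok_R1 (all_take ok_lowGens 6) (fun p hp => val_mem_gen hp) par_take.2
  have m01 : ∀ r ∈ R0, val r ∈ gen (lowGens.take 6) := fun r hr =>
    gen_take_le lowGens (by decide) (m0 r hr)
  have h2 : ∀ x ∈ gen lowGens, ∃ i ∈ R0, ∃ j ∈ R1, ∃ k ∈ R2, x = val i * val j * val k := by
    intro x hx
    obtain ⟨c, hc, r, hr, rfl⟩ := level (A := gen (lowGens.take 6)) (fun L hL => by
        simp only [List.mem_cons, List.not_mem_nil, or_false] at hL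
        rcases hL with rfl | rfl
        exacts [⟨ok_R0, m01⟩, ⟨ok_R1, m1⟩]) ok_R2
      ok_lowGens (by decide +kernel) (by decide +kernel) close2 x hx
    obtain ⟨i, hi, j, hj, rfl⟩ := h1 c hc
    exact ⟨i, hi, j, hj, r, hr, rfl⟩
  have m2 : ∀ r ∈ R2, val r ∈ gen lowGens :=
    val_mem_of_chkPar ok_R2 ok_lowGens (fun p hp => val_mem_gen hp) par2
  have up : gen (lowGens.take 6) ≤ gen lowGens :=
    Submonoid.closure_mono fun _ hx => (List.map_subset _ (List.take_subset 6 lowGens)) hx
  intro x hx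
  obtain ⟨c, hc, r, hr, rfl⟩ := level (A := gen lowGens) (fun L hL => by
      simp only [List.mem_cons, List.not_mem_nil, or_false] at hL
      rcases hL with rfl | rfl | rfl
      exacts [⟨ok_R0, fun p hp => up (m01 p hp)⟩, ⟨ok_R1, fun p hp => up (m1 p hp)⟩,
        ⟨ok_R2, m2⟩]) ok_R3
    ok_topGens (by decide +kernel) (by decide +kernel) close3 x hx
  obtain ⟨i, hi, j, hj, k, hk, rfl⟩ := h2 c hc
  exact ⟨i, hi, j, hj, k, hk, r, hr, rfl⟩

end Cfsg.Agent.PrimeGraphU34
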