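/-! Certificates for the twelve-dimensional Weil representation of U3(4) modulo 5 (generated). -/

set_option autoImplicit false
set_option maxRecDepth 100000

namespace Cfsg.Agent.PrimeGraphU34

/-- A pair of matrices, by rows. -/
abbrev Pr : Type := List (List Nat) × List (List Nat)

/-- The multiplication table of F16 modulo X^4+X+1. -/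
def mulTable : List Nat := [0, 0, 0, 0, 0, 0, 0, 0, 0, 0, 0, 0, 0, 0, 0, 0, 0, 1, 2, 3, 4, 5, 6, 7, 8, 9, 10, 11, 12, 13, 14, 15, 0, 2, 4, 6, 8, 10, 12, 14, 3, 1, 7, 5, 11, 9, 15, 13, 0, 3, 6, 5, 12, 15, 10, 9, 11, 8, 13, 14, 7, 4, 1, 2, 0, 4, 8, 12, 3, 7, 11, 15, 6, 2, 14, 10, 5, 1, 13, 9, 0, 5, 10, 15, 7, 2, 13, 8, 14, 11, 4, 1, 9, 12, 3, 6, 0, 6, 12, 10, 11, 13, 7, 1, 5, 3, 9, 15, 14, 8, 2, 4, 0, 7, 14, 9, 15, 8, 1, 6, 13, 10, 3, 4, 2, 5, 12, 11, 0, 8, 3, 11, 6, 14, 5, 13, 12, 4, 15, 7, 10, 2, 9, 1, 0, 9, 1, 8, 2, 11, 3, 10, 4, 13, 5, 12, 6, 15, 7, 14, 0, 10, 7, 13, 14, 4, 9, 3, 15, 5, 8, 2, 1, 11, 6, 12, 0, 11, 5, 14, 10, 1, 15, 4, 7, 12, 2, 9, 13, 6, 8,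 3, 0, 12, 11, 7, 5, 9, 14, 2, 10, 6, 1, 13, 15, 3, 4, 8, 0, 13, 9, 4, 1, 12, 8, 5, 2, 15, 11, 6, 3, 14, 10, 7, 0, 14, 15, 1, 13, 3, 2, 12, 9, 7, 6, 8, 4, 10, 11, 5, 0, 15, 13, 2, 9, 6, 4, 11, 1, 14, 12, 3, 8, 7, 5, 10]

/-- The isotropic row vector. -/
def fvec : List Nat := [0, 1, 1]

/-- The two generators. -/
def topGens : List Pr := [([[12,13,11],[5,7,0],[5,1,9]], [[1,3,4,0,1,0,3,1,0,2,3,0],[3,0,1,0,4,3,2,3,2,3,4,3],[2,3,2,4,0,2,2,3,3,0,3,3],[0,3,0,1,0,2,1,3,1,2,3,2],[3,3,3,2,2,0,2,0,2,2,0,4],[1,0,0,1,0,2,0,2,4,4,1,0],[4,3,0,2,3,2,1,1,1,0,1,3],[4,1,3,3,3,2,4,0,0,0,4,3],[1,1,1,4,3,3,2,4,0,2,4,1],[2,2,0,4,2,3,2,0,0,1,4,4],[3,3,1,1,0,0,2,3,4,2,4,4],[1,3,4,0,2,1,0,1,1,3,3,1]]),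
 ([[3,5,0],[0,0,12],[14,7,0]], [[2,0,1,0,2,3,3,2,3,2,0,4],[1,3,1,2,3,2,2,3,3,1,2,4],[0,0,0,0,4,3,3,4,1,3,3,1],[4,4,4,4,0,2,1,1,1,1,3,0],[2,0,4,1,0,0,2,4,3,0,1,4],[4,2,1,2,1,3,3,1,4,3,3,4],[0,3,4,3,3,0,0,4,1,4,0,3],[2,2,0,4,0,3,3,4,3,2,2,3],[2,1,2,3,4,4,4,3,0,1,1,3],[0,0,0,0,1,0,2,0,1,3,3,1],[1,4,0,4,2,3,3,2,0,0,2,2],[1,3,1,1,0,3,3,3,1,4,3,4]])]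

/-- Generators of the lower levels. -/
def lowGens : List Pr := [([[1,0,0],[0,0,1],[0,1,0]], [[4,0,0,0,0,0,0,0,0,0,0,0],[0,4,0,0,0,0,0,0,0,0,0,0],[0,0,4,0,0,0,0,0,0,0,0,0],[0,0,0,4,0,0,0,0,0,0,0,0],[4,4,2,1,2,3,3,3,0,0,2,4],[3,0,0,0,1,0,1,0,0,4,2,3],[2,0,2,3,3,3,4,1,2,1,4,2],[3,0,4,2,4,0,3,3,2,2,1,2],[2,3,3,3,2,2,1,3,3,2,2,2],[1,0,1,0,4,0,0,0,4,0,4,0],[3,3,4,1,1,0,1,4,2,2,1,4],[4,0,3,3,4,0,2,1,1,0,2,2]]),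
 ([[1,0,0],[0,6,7],[0,7,6]], [[3,3,0,1,1,0,0,4,1,3,1,4],[1,4,4,0,0,0,1,2,1,0,4,2],[0,2,3,1,0,3,0,3,1,2,4,4],[3,0,3,4,2,3,4,4,2,3,2,0],[1,1,3,4,3,2,2,2,0,0,3,1],[2,0,0,0,4,0,4,0,0,1,3,2],[3,0,3,2,2,2,1,4,3,4,1,3],[2,0,1,3,1,0,2,2,3,3,4,3],[2,2,0,4,1,3,2,1,3,0,3,2],[4,1,1,0,1,2,0,1,0,0,2,0],[0,3,2,4,2,0,1,0,3,1,0,0],[2,0,2,1,3,4,0,1,1,0,0,3]]),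
 ([[1,5,5],[4,8,9],[4,9,8]], [[3,1,4,1,4,1,1,3,2,3,1,0],[4,4,3,0,1,1,2,4,0,2,2,1],[0,3,3,0,1,0,2,1,3,2,4,1],[1,4,2,4,2,0,0,4,2,4,2,4],[3,2,1,0,0,2,1,1,1,4,4,1],[0,3,0,1,0,2,4,0,1,1,0,0],[0,3,4,3,2,2,3,1,3,4,4,4],[0,3,0,3,3,2,0,1,2,2,4,3],[1,3,1,2,4,2,0,3,3,0,1,2],[3,3,2,0,2,3,3,2,1,3,3,2],[1,2,0,2,2,0,2,3,3,4,0,3],[2,2,4,3,3,0,2,4,0,4,1,4]]),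
 ([[1,1,1],[1,2,3],[1,3,2]], [[2,2,3,0,1,4,0,2,4,1,3,0],[1,1,3,1,4,3,4,2,4,4,4,3],[3,0,3,1,3,0,4,2,2,0,4,2],[4,4,2,4,0,2,4,0,3,3,2,4],[0,2,2,1,2,1,0,4,3,1,4,1],[4,2,4,1,3,1,3,4,1,4,0,3],[2,4,3,4,4,2,1,4,3,1,0,3],[3,1,3,1,3,2,4,1,1,2,0,1],[0,2,1,3,2,3,3,4,2,4,3,0],[1,0,1,0,4,0,0,0,4,3,4,0],[2,3,0,2,3,0,1,1,4,0,3,1],[2,0,4,4,2,0,1,3,3,0,1,2]]),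
 ([[1,2,2],[3,10,11],[3,11,10]], [[0,2,2,4,2,0,3,3,0,3,4,3],[0,2,2,0,3,4,0,1,1,0,0,4],[4,2,4,1,1,1,0,4,3,4,4,1],[1,1,2,3,0,3,4,3,0,3,0,4],[0,4,4,3,0,0,2,4,4,0,0,1],[1,2,1,3,1,4,0,1,0,2,2,1],[4,2,4,2,3,0,3,4,4,2,2,2],[2,4,4,0,1,4,1,2,0,2,2,1],[0,0,4,3,4,0,1,1,0,1,1,1],[2,3,1,0,0,1,0,2,2,2,3,2],[4,3,0,0,2,2,4,1,3,3,4,0],[0,1,0,1,2,0,4,1,1,4,3,1]]),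
 ([[1,9,9],[14,8,9],[14,9,8]], [[3,0,2,0,4,3,1,4,1,3,2,0],[2,0,3,3,2,1,4,2,3,0,1,4],[2,3,2,0,0,4,3,2,1,2,4,0],[4,3,3,4,2,2,0,3,1,3,3,2],[2,4,2,4,1,4,3,3,4,3,0,4],[0,0,4,0,4,4,2,4,1,2,0,1],[4,0,3,2,0,2,1,3,3,2,0,4],[3,3,3,3,3,4,2,0,4,0,1,3],[3,1,1,3,3,2,2,2,4,2,2,1],[2,3,1,1,0,4,4,0,0,0,3,3],[1,2,3,0,4,4,0,2,2,4,1,2],[4,3,2,3,4,2,2,1,0,2,0,0]]),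
 ([[15,13,13],[8,2,11],[8,1,8]], [[4,2,2,0,2,3,2,4,0,0,3,1],[4,3,4,2,3,4,4,2,0,3,3,4],[3,2,2,3,1,1,4,0,4,1,0,2],[0,2,4,3,3,0,0,1,2,3,3,2],[2,0,2,3,0,3,0,0,0,2,1,2],[4,3,3,1,3,0,1,1,2,3,4,2],[4,3,0,2,3,1,0,3,4,2,0,4],[0,3,0,0,4,0,2,0,3,3,4,2],[2,0,2,0,2,4,0,2,4,1,1,2],[3,4,0,4,0,1,4,3,4,3,3,1],[4,0,4,1,0,0,0,4,2,4,4,3],[4,1,3,3,0,4,4,1,3,2,0,2]])]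

/-- The lower generators as words. -/
def lowWords : List (List Nat) := [[1, 0, 0, 0, 1, 1, 1, 0, 0, 0, 1, 1], [0, 1, 0, 0, 0, 0, 0, 1, 0, 1, 0, 0, 0, 1], [1, 0, 1, 0, 0, 1, 1, 0, 1, 0, 0, 1, 1, 0, 1], [0, 1, 0, 1, 0, 1, 1, 1, 0, 0, 1, 0, 0, 0], [0, 0, 0, 0, 0, 0, 1, 0, 0, 0, 1, 0, 1, 1], [1, 1, 0, 0, 0, 0, 0, 0, 0, 1, 1, 0, 1], [0, 0, 0, 0, 0, 1, 0, 1]]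

/-- Transversal of level 0. -/
def R0 : List Pr := [([[1,0,0],[0,1,0],[0,0,1]], [[1,0,0,0,0,0,0,0,0,0,0,0],[0,1,0,0,0,0,0,0,0,0,0,0],[0,0,1,0,0,0,0,0,0,0,0,0],[0,0,0,1,0,0,0,0,0,0,0,0],[0,0,0,0,1,0,0,0,0,0,0,0],[0,0,0,0,0,1,0,0,0,0,0,0],[0,0,0,0,0,0,1,0,0,0,0,0],[0,0,0,0,0,0,0,1,0,0,0,0],[0,0,0,0,0,0,0,0,1,0,0,0],[0,0,0,0,0,0,0,0,0,1,0,0],[0,0,0,0,0,0,0,0,0,0,1,0],[0,0,0,0,0,0,0,0,0,0,0,1]]),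
 ([[1,0,0],[0,0,1],[0,1,0]], [[4,0,0,0,0,0,0,0,0,0,0,0],[0,4,0,0,0,0,0,0,0,0,0,0],[0,0,4,0,0,0,0,0,0,0,0,0],[0,0,0,4,0,0,0,0,0,0,0,0],[4,4,2,1,2,3,3,3,0,0,2,4],[3,0,0,0,1,0,1,0,0,4,2,3],[2,0,2,3,3,3,4,1,2,1,4,2],[3,0,4,2,4,0,3,3,2,2,1,2],[2,3,3,3,2,2,1,3,3,2,2,2],[1,0,1,0,4,0,0,0,4,0,4,0],[3,3,4,1,1,0,1,4,2,2,1,4],[4,0,3,3,4,0,2,1,1,0,2,2]]),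
 ([[1,0,0],[0,6,7],[0,7,6]], [[3,3,0,1,1,0,0,4,1,3,1,4],[1,4,4,0,0,0,1,2,1,0,4,2],[0,2,3,1,0,3,0,3,1,2,4,4],[3,0,3,4,2,3,4,4,2,3,2,0],[1,1,3,4,3,2,2,2,0,0,3,1],[2,0,0,0,4,0,4,0,0,1,3,2],[3,0,3,2,2,2,1,4,3,4,1,3],[2,0,1,3,1,0,2,2,3,3,4,3],[2,2,0,4,1,3,2,1,3,0,3,2],[4,1,1,0,1,2,0,1,0,0,2,0],[0,3,2,4,2,0,1,0,3,1,0,0],[2,0,2,1,3,4,0,1,1,0,0,3]]),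
 ([[1,0,0],[0,7,6],[0,6,7]], [[2,2,0,4,4,0,0,1,4,2,4,1],[4,1,1,0,0,0,4,3,4,0,1,3],[0,3,2,4,0,2,0,2,4,3,1,1],[2,0,2,1,3,2,1,1,3,2,3,0],[0,0,0,0,4,0,0,0,0,0,0,0],[0,0,0,0,0,4,0,0,0,0,0,0],[0,0,0,0,0,0,4,0,0,0,0,0],[0,0,0,0,0,0,0,4,0,0,0,0],[1,0,2,3,2,0,2,1,3,3,0,1],[0,4,3,0,0,3,0,4,1,4,4,0],[2,4,4,0,2,0,3,1,0,2,3,1],[4,0,0,1,3,1,3,3,3,0,3,4]])]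

/-- Parents at level 0. -/
def P0 : List (Nat × Nat) := [(0, 0), (0, 0), (0, 1), (1, 1)]

/-- Closing data of level 0. -/
def C0 : List (List (List Nat × Nat)) := [[([], 1), ([], 2)],
 [([], 0), ([], 3)],
 [([], 3), ([], 0)],
 [([], 2), ([], 1)]]

/-- Transversal of level 1. -/
def R1 : List Pr := [([[1,0,0],[0,1,0],[0,0,1]], [[1,0,0,0,0,0,0,0,0,0,0,0],[0,1,0,0,0,0,0,0,0,0,0,0],[0,0,1,0,0,0,0,0,0,0,0,0],[0,0,0,1,0,0,0,0,0,0,0,0],[0,0,0,0,1,0,0,0,0,0,0,0],[0,0,0,0,0,1,0,0,0,0,0,0],[0,0,0,0,0,0,1,0,0,0,0,0],[0,0,0,0,0,0,0,1,0,0,0,0],[0,0,0,0,0,0,0,0,1,0,0,0],[0,0,0,0,0,0,0,0,0,1,0,0],[0,0,0,0,0,0,0,0,0,0,1,0],[0,0,0,0,0,0,0,0,0,0,0,1]]),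
 ([[1,5,5],[4,8,9],[4,9,8]], [[3,1,4,1,4,1,1,3,2,3,1,0],[4,4,3,0,1,1,2,4,0,2,2,1],[0,3,3,0,1,0,2,1,3,2,4,1],[1,4,2,4,2,0,0,4,2,4,2,4],[3,2,1,0,0,2,1,1,1,4,4,1],[0,3,0,1,0,2,4,0,1,1,0,0],[0,3,4,3,2,2,3,1,3,4,4,4],[0,3,0,3,3,2,0,1,2,2,4,3],[1,3,1,2,4,2,0,3,3,0,1,2],[3,3,2,0,2,3,3,2,1,3,3,2],[1,2,0,2,2,0,2,3,3,4,0,3],[2,2,4,3,3,0,2,4,0,4,1,4]]),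
 ([[1,1,1],[1,2,3],[1,3,2]], [[2,2,3,0,1,4,0,2,4,1,3,0],[1,1,3,1,4,3,4,2,4,4,4,3],[3,0,3,1,3,0,4,2,2,0,4,2],[4,4,2,4,0,2,4,0,3,3,2,4],[0,2,2,1,2,1,0,4,3,1,4,1],[4,2,4,1,3,1,3,4,1,4,0,3],[2,4,3,4,4,2,1,4,3,1,0,3],[3,1,3,1,3,2,4,1,1,2,0,1],[0,2,1,3,2,3,3,4,2,4,3,0],[1,0,1,0,4,0,0,0,4,3,4,0],[2,3,0,2,3,0,1,1,4,0,3,1],[2,0,4,4,2,0,1,3,3,0,1,2]]),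
 ([[1,2,2],[3,10,11],[3,11,10]], [[0,2,2,4,2,0,3,3,0,3,4,3],[0,2,2,0,3,4,0,1,1,0,0,4],[4,2,4,1,1,1,0,4,3,4,4,1],[1,1,2,3,0,3,4,3,0,3,0,4],[0,4,4,3,0,0,2,4,4,0,0,1],[1,2,1,3,1,4,0,1,0,2,2,1],[4,2,4,2,3,0,3,4,4,2,2,2],[2,4,4,0,1,4,1,2,0,2,2,1],[0,0,4,3,4,0,1,1,0,1,1,1],[2,3,1,0,0,1,0,2,2,2,3,2],[4,3,0,0,2,2,4,1,3,3,4,0],[0,1,0,1,2,0,4,1,1,4,3,1]]),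
 ([[1,9,9],[14,8,9],[14,9,8]], [[3,0,2,0,4,3,1,4,1,3,2,0],[2,0,3,3,2,1,4,2,3,0,1,4],[2,3,2,0,0,4,3,2,1,2,4,0],[4,3,3,4,2,2,0,3,1,3,3,2],[2,4,2,4,1,4,3,3,4,3,0,4],[0,0,4,0,4,4,2,4,1,2,0,1],[4,0,3,2,0,2,1,3,3,2,0,4],[3,3,3,3,3,4,2,0,4,0,1,3],[3,1,1,3,3,2,2,2,4,2,2,1],[2,3,1,1,0,4,4,0,0,0,3,3],[1,2,3,0,4,4,0,2,2,4,1,2],[4,3,2,3,4,2,2,1,0,2,0,0]]),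
 ([[1,4,4],[5,15,14],[5,14,15]], [[3,0,0,4,2,1,2,2,1,2,3,4],[4,4,3,4,0,2,2,2,1,1,4,1],[1,2,3,2,2,0,4,4,1,0,3,4],[1,0,2,4,3,0,3,3,1,4,0,3],[3,1,1,0,4,2,1,1,0,3,3,4],[4,4,3,3,0,4,4,4,0,4,1,1],[4,4,4,4,1,1,0,1,2,0,3,4],[2,2,3,2,2,3,2,3,0,3,4,1],[4,2,0,0,2,3,4,1,2,4,3,2],[2,4,2,1,4,4,3,3,0,4,3,2],[0,3,1,4,3,0,2,1,4,4,1,1],[0,4,4,1,0,0,4,3,4,4,1,3]]),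
 ([[1,7,7],[7,11,10],[7,10,11]], [[3,1,0,2,0,2,3,0,2,4,3,4],[1,1,4,0,0,0,1,1,1,2,4,1],[2,3,3,0,1,4,2,1,1,1,1,4],[1,4,2,4,0,4,3,4,1,3,4,2],[1,2,2,0,3,3,4,2,0,1,1,3],[1,2,1,0,2,4,2,2,1,3,1,4],[4,2,0,4,3,4,1,1,4,1,1,4],[2,0,0,3,4,3,4,1,4,0,4,4],[3,4,3,0,0,1,2,1,2,2,1,3],[0,4,3,0,0,3,0,4,1,2,4,0],[4,2,4,2,0,0,4,2,4,2,3,2],[2,0,0,3,4,3,4,4,4,0,4,3]]),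
 ([[1,12,12],[10,3,2],[10,2,3]], [[2,3,2,3,3,2,1,0,3,4,3,4],[3,3,0,2,3,4,4,3,0,2,1,1],[1,1,0,4,4,4,4,1,1,2,2,4],[4,3,1,0,4,3,0,1,0,0,3,2],[1,0,2,1,0,0,1,0,1,2,1,3],[1,2,4,0,4,2,1,1,3,2,1,1],[2,2,2,3,1,2,4,4,4,3,1,1],[3,4,2,3,0,2,0,2,1,3,2,1],[4,0,4,2,1,4,3,3,2,1,0,3],[1,2,2,1,1,4,3,4,2,4,3,2],[0,2,1,2,4,1,1,0,2,1,1,2],[1,1,1,2,3,0,0,0,1,3,3,0]]),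
 ([[1,3,3],[2,11,10],[2,10,11]], [[4,1,3,3,1,2,1,1,1,0,1,0],[0,1,1,4,0,2,1,2,0,2,0,1],[4,0,4,3,3,2,4,4,1,3,0,3],[4,0,0,2,0,0,2,4,2,0,3,4],[1,1,2,4,0,2,0,0,1,2,3,2],[1,2,4,2,2,4,3,3,4,3,0,4],[2,1,3,0,1,1,2,2,3,1,4,1],[2,0,2,0,3,4,2,3,3,2,3,0],[0,1,0,2,2,1,3,4,2,2,0,1],[1,1,1,4,2,2,1,2,2,4,2,3],[0,0,0,3,1,3,4,1,4,3,1,2],[4,3,4,3,2,0,2,3,4,1,0,3]]),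
 ([[1,8,8],[15,2,3],[15,3,2]], [[1,2,4,4,4,2,1,1,4,3,4,0],[1,2,3,2,0,3,0,0,1,3,4,1],[0,1,2,2,3,0,2,1,0,4,1,1],[4,1,1,0,3,2,0,4,2,2,4,3],[2,1,1,3,3,3,2,1,4,4,0,0],[1,1,2,1,1,4,0,3,2,3,2,0],[3,4,0,2,4,3,3,1,0,4,0,4],[2,2,2,3,2,3,2,0,4,3,1,1],[3,2,4,4,4,1,4,2,0,0,3,4],[0,0,1,1,1,4,1,4,2,1,2,2],[2,4,1,4,2,3,1,2,4,0,0,0],[0,2,0,0,3,1,2,2,2,3,2,4]]),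
 ([[1,11,11],[13,11,10],[13,10,11]], [[1,1,0,2,1,3,2,1,4,0,3,2],[1,4,4,1,0,2,3,4,2,1,3,3],[2,2,4,2,3,1,1,3,1,2,0,0],[3,0,2,2,4,0,2,2,1,3,2,2],[4,0,3,0,2,1,3,0,2,1,1,1],[1,2,0,0,1,2,0,3,2,0,1,0],[3,2,1,4,2,1,4,1,3,1,2,2],[4,0,1,4,1,4,1,1,1,2,4,4],[2,3,2,2,1,4,3,0,2,2,0,4],[1,4,2,4,0,3,4,2,0,0,1,3],[0,1,2,0,0,2,0,2,4,2,1,1],[2,1,1,1,3,0,1,2,3,3,2,2]]),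
 ([[1,6,6],[6,14,15],[6,15,14]], [[3,1,0,4,3,2,1,4,3,1,3,3],[3,3,4,0,2,1,2,2,1,2,3,4],[0,4,1,4,0,4,0,3,3,3,2,1],[3,0,2,4,1,0,0,0,1,1,1,0],[0,3,1,2,0,1,4,1,3,2,2,3],[0,3,4,4,2,1,3,0,1,2,1,3],[0,1,2,3,3,1,1,0,3,1,2,2],[3,3,3,2,0,2,2,2,1,2,4,4],[1,1,0,2,3,4,1,3,0,0,4,1],[1,2,0,0,4,4,0,2,2,2,1,0],[0,3,2,4,2,0,1,0,3,1,3,0],[1,0,4,0,0,1,4,1,1,0,4,0]]),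
 ([[1,13,13],[11,13,12],[11,12,13]], [[4,1,3,1,3,1,0,2,0,0,1,4],[4,2,4,0,4,0,2,2,1,3,2,2],[0,4,1,2,2,0,1,0,3,1,1,0],[3,1,3,4,4,3,4,3,4,2,4,4],[3,4,3,4,2,1,4,4,3,4,4,4],[4,2,4,1,1,1,2,0,1,4,0,3],[4,1,3,3,4,1,1,0,2,1,3,0],[4,2,0,1,4,0,3,2,0,2,0,2],[4,2,4,1,3,2,4,2,1,2,0,3],[0,3,2,2,2,2,3,3,4,0,2,2],[1,1,1,3,0,0,4,1,4,1,1,1],[3,1,1,3,2,1,3,4,4,2,2,1]]),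
 ([[1,14,14],[9,8,9],[9,9,8]], [[4,3,0,4,0,3,2,1,3,4,2,2],[0,3,1,1,2,4,2,3,2,3,2,1],[3,4,4,1,2,2,2,3,3,1,1,2],[1,4,2,3,0,0,0,0,0,0,0,0],[4,3,3,2,0,2,3,0,1,0,3,0],[3,1,2,2,0,1,4,1,0,2,2,1],[1,3,0,4,2,0,2,4,0,3,0,3],[2,2,2,3,2,4,2,3,4,3,1,1],[2,1,0,1,4,4,2,0,4,0,4,3],[2,1,2,4,1,0,4,1,1,0,2,1],[1,1,0,3,2,2,2,2,3,3,1,0],[2,3,4,4,2,4,1,2,1,1,4,0]]),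
 ([[1,10,10],[12,3,2],[12,2,3]], [[0,3,1,2,3,0,4,1,2,2,4,1],[3,0,3,2,3,1,1,3,1,2,0,0],[2,4,3,4,0,3,1,2,2,3,3,3],[0,3,1,2,1,0,1,2,2,1,0,2],[3,2,0,0,0,4,4,0,2,1,4,2],[2,0,0,4,2,0,2,0,2,3,1,3],[4,1,4,0,0,2,3,4,2,0,2,2],[4,2,4,1,2,4,2,0,1,4,0,3],[2,2,4,3,4,3,2,2,2,1,1,4],[0,1,3,4,1,1,4,3,2,2,4,0],[0,2,2,3,1,2,4,3,4,2,3,2],[0,4,4,4,3,4,0,2,2,3,0,0]]),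
 ([[1,15,15],[8,4,5],[8,5,4]], [[0,2,4,4,3,4,0,1,1,0,0,4],[2,1,3,4,1,2,4,4,4,1,3,3],[1,3,0,2,2,2,3,4,4,3,0,3],[2,3,4,4,3,4,3,0,4,4,2,3],[2,4,3,3,1,0,3,3,0,3,3,4],[1,0,3,3,4,0,1,2,1,1,0,0],[4,3,3,0,0,0,1,3,0,4,4,2],[0,3,0,4,1,2,2,3,0,0,1,2],[0,3,4,2,3,3,1,4,0,1,1,0],[2,2,0,1,4,1,0,2,0,1,2,4],[3,3,0,0,2,1,0,3,4,2,0,4],[2,4,2,4,0,3,3,3,4,4,0,4]])]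

/-- Parents at level 1. -/
def P1 : List (Nat × Nat) := [(0, 2), (0, 2), (0, 3), (0, 4), (0, 5), (1, 3), (1, 4), (1, 5), (2, 4), (2, 5), (3, 5), (5, 4), (5, 5), (6, 5), (8, 5), (11, 5)]

/-- Closing data of level 1. -/
def C1 : List (List (List Nat × Nat)) := [[([1], 0), ([2], 0), ([0], 1), ([0], 2), ([0], 3), ([0], 4)],
 [([1], 1), ([2], 1), ([2], 0), ([0], 5), ([0], 6), ([0], 7)],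
 [([1], 2), ([2], 2), ([1], 5), ([1], 0), ([0], 8), ([0], 9)],
 [([1], 3), ([2], 3), ([2], 6), ([1], 8), ([3], 0), ([0], 10)],
 [([1], 4), ([2], 4), ([1], 7), ([2], 9), ([2], 10), ([2], 0)],
 [([1], 5), ([2], 5), ([3], 2), ([1], 1), ([0], 11), ([0], 12)],
 [([1], 6), ([2], 6), ([0], 3), ([1], 11), ([3], 1), ([0], 13)],
 [([1], 7), ([2], 7), ([3], 4), ([2], 12), ([2], 13), ([2], 1)],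
 [([1], 8), ([2], 8), ([3], 11), ([0], 3), ([3], 2), ([0], 14)],
 [([1], 9), ([2], 9), ([0], 12), ([3], 4), ([2], 14), ([2], 2)],
 [([1], 10), ([2], 10), ([3], 13), ([3], 14), ([1], 4), ([2], 3)],
 [([1], 11), ([2], 11), ([1], 8), ([0], 6), ([3], 5), ([0], 15)],
 [([1], 12), ([2], 12), ([2], 9), ([3], 7), ([2], 15), ([2], 5)],
 [([1], 13), ([2], 13), ([1], 10), ([3], 15), ([1], 7), ([2], 6)],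
 [([1], 14), ([2], 14), ([2], 15), ([2], 10), ([1], 9), ([2], 8)],
 [([1], 15), ([2], 15), ([0], 14), ([2], 13), ([1], 12), ([2], 11)]]

/-- Transversal of level 2. -/
def R2 : List Pr := [([[1,0,0],[0,1,0],[0,0,1]], [[1,0,0,0,0,0,0,0,0,0,0,0],[0,1,0,0,0,0,0,0,0,0,0,0],[0,0,1,0,0,0,0,0,0,0,0,0],[0,0,0,1,0,0,0,0,0,0,0,0],[0,0,0,0,1,0,0,0,0,0,0,0],[0,0,0,0,0,1,0,0,0,0,0,0],[0,0,0,0,0,0,1,0,0,0,0,0],[0,0,0,0,0,0,0,1,0,0,0,0],[0,0,0,0,0,0,0,0,1,0,0,0],[0,0,0,0,0,0,0,0,0,1,0,0],[0,0,0,0,0,0,0,0,0,0,1,0],[0,0,0,0,0,0,0,0,0,0,0,1]]),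
 ([[15,13,13],[8,2,11],[8,1,8]], [[4,2,2,0,2,3,2,4,0,0,3,1],[4,3,4,2,3,4,4,2,0,3,3,4],[3,2,2,3,1,1,4,0,4,1,0,2],[0,2,4,3,3,0,0,1,2,3,3,2],[2,0,2,3,0,3,0,0,0,2,1,2],[4,3,3,1,3,0,1,1,2,3,4,2],[4,3,0,2,3,1,0,3,4,2,0,4],[0,3,0,0,4,0,2,0,3,3,4,2],[2,0,2,0,2,4,0,2,4,1,1,2],[3,4,0,4,0,1,4,3,4,3,3,1],[4,0,4,1,0,0,0,4,2,4,4,3],[4,1,3,3,0,4,4,1,3,2,0,2]]),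
 ([[10,3,3],[5,13,0],[5,8,5]], [[0,1,3,4,2,4,4,2,3,1,0,3],[0,0,3,2,4,0,2,0,0,0,0,2],[2,3,4,1,1,1,0,0,3,1,1,4],[4,2,1,0,2,0,1,4,2,0,0,0],[4,3,4,3,4,3,1,1,1,4,2,2],[4,0,2,1,4,1,4,2,0,2,3,4],[3,0,2,2,1,2,1,3,1,1,1,2],[2,4,3,4,1,4,2,0,1,3,1,3],[2,2,2,2,4,4,2,4,0,4,3,3],[1,3,4,2,0,2,0,2,2,1,4,3],[2,4,4,4,0,0,0,2,1,0,1,3],[1,0,4,1,2,0,1,1,1,1,3,3]]),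
 ([[12,14,14],[4,5,10],[4,10,5]], [[0,4,2,4,1,2,0,4,0,0,2,3],[3,3,3,2,0,0,0,0,0,0,0,0],[2,4,0,2,4,4,3,3,0,4,3,1],[4,1,1,0,3,1,3,2,3,2,3,4],[4,4,3,3,3,2,0,0,0,4,1,1],[4,2,1,3,1,3,0,2,0,1,4,4],[4,3,3,0,2,3,4,0,0,4,4,2],[1,3,1,2,1,4,0,3,3,0,1,4],[0,2,0,4,2,1,0,1,1,0,3,4],[1,2,0,3,4,0,2,0,4,3,0,1],[4,1,4,2,2,2,2,4,0,0,3,4],[3,0,1,4,3,1,1,3,3,3,3,4]]),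
 ([[8,2,2],[8,1,15],[8,3,13]], [[2,0,1,2,3,3,1,0,0,0,2,4],[3,0,2,1,4,4,0,0,1,3,4,0],[3,2,3,3,0,0,0,1,3,4,0,1],[0,3,3,4,3,4,0,1,2,4,1,4],[0,0,1,2,3,3,3,1,3,4,0,1],[1,0,4,2,1,1,2,4,1,0,2,3],[0,2,1,3,1,4,4,2,4,0,3,3],[3,2,0,0,3,2,4,0,1,4,4,2],[1,4,2,3,2,4,2,2,0,4,1,3],[4,3,1,4,1,3,1,0,0,2,0,4],[0,1,2,2,4,4,4,4,2,4,4,1],[2,2,3,4,3,1,0,1,4,0,4,2]]),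
 ([[1,4,4],[8,15,8],[8,9,14]], [[2,1,4,2,3,3,2,3,4,0,0,3],[4,1,2,1,0,0,0,4,2,1,3,2],[1,4,1,1,4,0,3,3,2,3,3,2],[4,3,2,4,4,2,2,3,4,1,2,1],[0,4,4,1,0,3,4,3,0,3,0,4],[2,3,2,2,4,3,4,1,4,1,4,2],[2,2,0,3,1,4,2,1,1,1,1,4],[3,3,0,4,2,1,0,2,4,4,0,4],[2,2,3,3,1,0,2,4,3,1,1,4],[1,1,1,4,2,2,1,2,2,4,2,3],[1,4,4,1,0,3,4,3,3,3,0,4],[2,2,3,0,0,0,0,3,0,2,0,3]]),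
 ([[15,1,1],[12,7,13],[12,13,7]], [[0,1,1,0,2,3,0,2,3,1,1,3],[3,0,2,4,1,0,0,0,1,1,1,0],[1,0,4,3,3,4,3,4,4,1,2,2],[1,0,3,1,3,1,4,4,4,2,2,1],[1,3,4,3,2,3,4,2,3,2,3,0],[2,1,0,0,4,1,1,0,1,2,4,4],[2,0,1,1,3,0,3,3,2,2,0,0],[3,2,1,3,1,3,0,2,0,3,0,3],[4,3,4,1,0,1,2,3,3,4,3,3],[3,4,0,4,4,4,4,2,3,2,3,1],[1,0,2,3,0,3,1,2,0,0,4,2],[3,1,2,0,0,1,0,1,3,0,0,0]]),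
 ([[10,4,4],[7,0,5],[7,13,8]], [[3,2,3,3,2,1,1,1,3,4,0,1],[4,2,4,1,2,4,3,0,1,4,0,3],[2,0,2,2,0,4,2,1,4,3,2,3],[0,1,0,3,2,1,0,1,0,0,2,4],[4,0,0,0,4,3,0,2,1,0,4,4],[3,0,4,1,0,0,3,2,3,2,0,4],[4,4,0,4,3,4,2,3,3,3,2,1],[3,0,3,3,4,1,4,4,3,3,4,0],[4,4,2,4,1,3,1,3,0,0,2,2],[1,0,4,3,3,4,2,0,2,1,2,2],[0,2,4,0,3,4,0,1,4,3,3,1],[2,4,3,4,4,2,1,1,0,4,3,1]]),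
 ([[12,7,7],[5,0,11],[5,4,15]], [[3,0,3,0,0,2,4,2,3,2,4,2],[4,4,0,0,4,3,4,1,2,4,2,3],[0,3,3,3,2,1,2,3,2,4,3,1],[1,4,3,2,4,1,3,3,2,3,0,2],[0,2,0,1,2,4,1,1,1,3,3,4],[4,3,1,1,1,1,0,3,3,1,4,0],[4,3,0,4,3,3,0,2,4,2,2,3],[0,2,2,0,0,3,4,4,0,1,0,0],[2,0,4,2,3,2,4,4,0,0,4,0],[4,0,3,0,2,0,4,4,0,2,4,2],[0,2,2,2,4,4,1,3,4,3,4,4],[1,4,1,2,4,1,1,0,1,2,0,0]]),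
 ([[8,10,10],[1,7,11],[1,11,7]], [[1,1,1,2,1,3,0,1,2,2,0,2],[4,3,2,3,4,3,2,1,2,3,1,2],[4,1,1,2,1,4,1,0,0,4,2,3],[4,4,3,0,1,1,2,4,0,2,2,1],[1,2,4,1,0,3,2,4,1,0,3,0],[2,2,3,4,2,1,0,4,1,4,3,4],[0,1,1,4,4,3,2,4,2,1,4,2],[0,2,1,0,0,0,1,2,1,0,2,3],[1,1,3,1,3,3,0,0,0,3,0,0],[0,3,0,1,4,0,4,2,2,3,2,1],[1,4,1,2,4,3,4,0,1,2,3,3],[2,4,1,0,4,4,1,1,1,4,1,1]]),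
 ([[1,15,15],[5,8,14],[5,15,9]], [[3,3,2,1,4,4,1,3,4,1,2,1],[2,4,2,4,1,4,3,3,4,3,0,4],[2,1,3,2,3,2,3,0,4,2,3,4],[3,1,1,3,3,2,2,1,4,2,4,1],[3,0,0,4,3,1,2,2,4,1,3,2],[0,4,2,3,1,2,0,2,2,3,1,1],[1,1,0,0,1,1,1,0,4,4,3,0],[2,0,4,0,0,1,3,0,1,0,3,2],[4,4,1,3,0,2,3,4,2,3,3,3],[1,2,4,1,1,3,2,1,1,0,3,2],[1,2,3,0,4,4,0,2,2,4,1,2],[2,3,1,4,3,3,0,2,4,2,4,3]]),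
 ([[15,15,15],[3,1,2],[3,8,11]], [[1,0,0,2,0,2,4,1,3,2,3,4],[3,4,4,3,1,0,1,4,0,1,2,2],[4,4,1,2,4,4,1,3,4,0,3,0],[0,1,3,4,3,2,0,1,0,0,2,4],[1,0,2,4,3,0,3,3,1,4,0,3],[3,2,1,4,1,1,1,1,4,4,3,3],[0,2,1,2,4,1,3,2,4,3,4,4],[3,1,0,3,2,0,4,4,1,0,3,4],[2,0,4,2,0,0,2,1,3,0,0,4],[3,3,3,3,1,2,4,4,1,3,2,2],[3,0,0,2,0,1,4,4,3,2,0,0],[3,4,2,4,1,3,2,4,0,0,1,3]]),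
 ([[10,5,5],[9,4,12],[9,12,4]], [[3,4,1,4,1,2,0,3,0,2,2,2],[0,3,3,1,0,2,3,4,2,1,3,3],[3,0,4,3,2,3,3,3,1,1,3,4],[1,0,3,3,3,2,1,0,3,4,3,4],[4,1,4,3,4,2,4,4,1,4,3,4],[2,0,1,3,3,4,4,4,3,3,4,3],[4,1,0,0,1,4,0,3,1,3,2,1],[1,3,2,0,3,3,4,2,1,2,2,0],[0,4,3,4,0,0,3,1,0,3,4,3],[1,1,0,2,3,1,0,1,1,1,0,2],[4,0,3,3,4,2,3,4,4,3,4,1],[2,0,1,1,3,4,3,0,3,3,1,4]]),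
 ([[12,4,4],[2,11,15],[2,0,4]], [[3,3,2,4,4,4,0,2,3,0,3,3],[2,1,3,2,0,4,0,0,4,2,3,4],[0,0,0,0,1,3,1,3,0,0,0,0],[2,3,2,2,4,3,3,1,2,1,0,4],[1,0,2,1,0,0,0,0,2,3,2,1],[2,3,2,3,0,2,4,1,2,2,3,0],[1,0,4,1,2,0,3,2,0,1,2,2],[2,0,3,2,4,1,2,1,2,0,0,4],[4,3,3,0,0,2,4,4,4,2,3,0],[1,1,1,3,0,4,1,1,3,4,2,1],[0,0,2,2,4,3,1,4,0,0,3,3],[0,0,0,0,0,0,0,0,4,2,4,2]]),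
 ([[8,15,15],[11,3,1],[11,13,15]], [[4,3,0,2,0,4,1,2,2,0,3,3],[4,1,1,4,1,2,3,1,1,4,3,1],[3,1,1,3,4,4,4,1,4,2,0,3],[1,0,1,0,2,0,4,4,2,1,1,3],[0,1,0,1,1,0,1,2,2,1,0,2],[2,2,4,2,0,4,1,3,4,2,1,1],[1,3,2,4,1,0,4,2,0,3,2,2],[2,0,0,4,0,2,0,0,4,2,1,4],[2,1,2,1,2,4,0,2,4,0,2,4],[1,3,4,1,0,4,1,3,0,0,3,0],[4,0,0,1,1,2,1,3,4,2,0,4],[3,0,0,3,3,1,1,2,3,0,1,1]])]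

/-- Parents at level 2. -/
def P2 : List (Nat × Nat) := [(0, 6), (0, 6), (1, 6), (2, 6), (3, 6), (4, 6), (5, 6), (6, 6), (7, 6), (8, 6), (9, 6), (10, 6), (11, 6), (12, 6), (13, 6)]

/-- Closing data of level 2. -/
def C2 : List (List (List Nat × Nat)) := [[([1, 0], 0), ([2, 0], 0), ([0, 1], 0), ([0, 2], 0), ([0, 3], 0), ([0, 4], 0), ([0, 0], 1)],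
 [([2, 0], 1), ([3, 0], 1), ([2, 3], 1), ([2, 1], 1), ([3, 14], 1), ([3, 10], 1), ([0, 0], 2)],
 [([3, 0], 2), ([1, 0], 2), ([0, 14], 2), ([1, 3], 2), ([0, 5], 2), ([2, 2], 2), ([0, 0], 3)],
 [([1, 0], 3), ([2, 0], 3), ([1, 5], 3), ([1, 14], 3), ([2, 6], 3), ([1, 1], 3), ([0, 0], 4)],
 [([2, 0], 4), ([3, 0], 4), ([0, 6], 4), ([3, 5], 4), ([0, 9], 4), ([0, 3], 4), ([0, 0], 5)],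
 [([3, 0], 5), ([1, 0], 5), ([3, 9], 5), ([3, 6], 5), ([1, 13], 5), ([3, 14], 5), ([0, 0], 6)],
 [([1, 0], 6), ([2, 0], 6), ([0, 13], 6), ([2, 9], 6), ([2, 8], 6), ([0, 5], 6), ([0, 0], 7)],
 [([2, 0], 7), ([3, 0], 7), ([0, 8], 7), ([2, 13], 7), ([2, 15], 7), ([2, 6], 7), ([0, 0], 8)],
 [([3, 0], 8), ([1, 0], 8), ([1, 15], 8), ([3, 8], 8), ([3, 11], 8), ([0, 9], 8), ([0, 0], 9)],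
 [([1, 0], 9), ([2, 0], 9), ([2, 11], 9), ([0, 15], 9), ([2, 12], 9), ([1, 13], 9), ([0, 0], 10)],
 [([2, 0], 10), ([3, 0], 10), ([0, 12], 10), ([0, 11], 10), ([1, 7], 10), ([2, 8], 10), ([0, 0], 11)],
 [([3, 0], 11), ([1, 0], 11), ([2, 7], 11), ([3, 12], 11), ([0, 4], 11), ([2, 15], 11), ([0, 0], 12)],
 [([1, 0], 12), ([2, 0], 12), ([1, 4], 12), ([3, 7], 12), ([3, 10], 12), ([3, 11], 12), ([0, 0], 13)],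
 [([2, 0], 13), ([3, 0], 13), ([1, 10], 13), ([3, 4], 13), ([2, 2], 13), ([2, 12], 13), ([0, 0], 14)],
 [([3, 0], 14), ([1, 0], 14), ([1, 2], 14), ([2, 10], 14), ([1, 1], 14), ([1, 7], 14), ([0, 0], 0)]]

/-- Transversal of level 3. -/
def R3 : List Pr := [([[1,0,0],[0,1,0],[0,0,1]], [[1,0,0,0,0,0,0,0,0,0,0,0],[0,1,0,0,0,0,0,0,0,0,0,0],[0,0,1,0,0,0,0,0,0,0,0,0],[0,0,0,1,0,0,0,0,0,0,0,0],[0,0,0,0,1,0,0,0,0,0,0,0],[0,0,0,0,0,1,0,0,0,0,0,0],[0,0,0,0,0,0,1,0,0,0,0,0],[0,0,0,0,0,0,0,1,0,0,0,0],[0,0,0,0,0,0,0,0,1,0,0,0],[0,0,0,0,0,0,0,0,0,1,0,0],[0,0,0,0,0,0,0,0,0,0,1,0],[0,0,0,0,0,0,0,0,0,0,0,1]]),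
 ([[12,13,11],[5,7,0],[5,1,9]], [[1,3,4,0,1,0,3,1,0,2,3,0],[3,0,1,0,4,3,2,3,2,3,4,3],[2,3,2,4,0,2,2,3,3,0,3,3],[0,3,0,1,0,2,1,3,1,2,3,2],[3,3,3,2,2,0,2,0,2,2,0,4],[1,0,0,1,0,2,0,2,4,4,1,0],[4,3,0,2,3,2,1,1,1,0,1,3],[4,1,3,3,3,2,4,0,0,0,4,3],[1,1,1,4,3,3,2,4,0,2,4,1],[2,2,0,4,2,3,2,0,0,1,4,4],[3,3,1,1,0,0,2,3,4,2,4,4],[1,3,4,0,2,1,0,1,1,3,3,1]]),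
 ([[3,5,0],[0,0,12],[14,7,0]], [[2,0,1,0,2,3,3,2,3,2,0,4],[1,3,1,2,3,2,2,3,3,1,2,4],[0,0,0,0,4,3,3,4,1,3,3,1],[4,4,4,4,0,2,1,1,1,1,3,0],[2,0,4,1,0,0,2,4,3,0,1,4],[4,2,1,2,1,3,3,1,4,3,3,4],[0,3,4,3,3,0,0,4,1,4,0,3],[2,2,0,4,0,3,3,4,3,2,2,3],[2,1,2,3,4,4,4,3,0,1,1,3],[0,0,0,0,1,0,2,0,1,3,3,1],[1,4,0,4,2,3,3,2,0,0,2,2],[1,3,1,1,0,3,3,3,1,4,3,4]]),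
 ([[2,13,1],[1,10,1],[7,2,12]], [[0,1,4,3,1,1,1,4,0,1,4,2],[3,2,3,2,4,1,1,2,4,0,4,2],[2,4,2,2,4,2,1,4,1,0,0,1],[3,4,4,4,0,4,2,2,0,0,0,1],[2,4,0,3,3,4,2,1,2,1,1,0],[1,3,0,2,2,4,0,2,3,1,2,2],[4,4,0,0,2,2,0,4,0,3,4,4],[0,2,3,0,2,0,1,3,1,3,0,1],[4,1,1,0,0,3,2,0,1,4,0,4],[3,1,1,3,0,1,0,4,1,0,3,2],[3,1,0,1,4,0,2,2,2,2,3,1],[1,1,2,3,1,4,4,3,4,3,3,3]]),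
 ([[15,13,3],[15,2,2],[8,8,12]], [[2,2,0,2,4,3,4,3,2,2,3,4],[3,0,2,3,3,4,3,2,1,0,0,0],[4,0,0,3,2,1,2,1,3,2,4,2],[3,0,2,1,1,2,0,3,2,0,0,1],[4,2,3,2,3,3,4,3,2,2,3,0],[2,0,0,2,1,1,3,2,2,4,1,1],[1,0,3,3,3,2,1,0,2,3,0,1],[2,1,0,2,0,1,4,3,0,0,1,0],[0,3,2,1,3,2,3,3,4,0,4,0],[1,2,3,4,3,1,3,3,1,1,0,2],[0,2,0,0,1,4,2,2,2,3,3,3],[1,4,1,0,1,3,3,2,3,1,4,1]]),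
 ([[5,12,14],[9,12,6],[12,12,8]], [[4,0,1,3,2,2,3,0,1,0,0,1],[3,3,3,0,3,0,0,2,4,2,1,2],[0,4,2,3,0,3,1,3,1,4,3,3],[1,2,0,3,1,2,2,3,0,0,4,0],[4,4,3,1,2,0,1,3,3,1,2,3],[2,0,4,1,2,1,4,2,2,1,1,1],[4,2,0,2,2,4,4,2,0,1,3,1],[0,3,4,2,0,2,2,0,4,1,0,2],[1,2,2,0,3,1,3,3,1,4,2,3],[3,3,1,0,4,2,3,1,2,1,3,1],[0,4,0,0,0,3,4,2,1,3,4,3],[1,1,3,1,0,0,3,2,1,4,3,0]]),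
 ([[5,15,9],[4,2,0],[1,3,2]], [[4,4,0,3,4,3,1,0,0,2,4,1],[0,1,4,0,0,1,2,1,3,2,2,2],[4,4,4,1,0,2,1,4,3,3,0,0],[3,0,2,0,2,2,0,4,0,4,0,0],[2,2,4,3,0,4,3,3,4,2,0,2],[4,4,0,0,0,2,3,3,4,2,1,0],[4,4,2,3,3,4,0,3,4,1,0,4],[3,0,4,1,0,1,1,2,3,0,0,1],[1,4,4,2,4,3,0,2,4,3,3,2],[3,2,0,3,4,1,4,4,4,2,0,1],[1,1,1,4,0,1,1,4,3,3,0,2],[1,4,4,1,1,2,4,4,1,0,3,1]]),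
 ([[2,13,12],[13,15,2],[1,7,2]], [[1,1,1,4,2,4,2,1,2,0,4,2],[3,3,4,1,4,3,4,2,1,0,0,1],[4,1,0,3,1,3,2,1,4,1,0,0],[4,4,4,4,3,0,4,0,3,0,1,0],[1,3,2,3,1,1,2,4,4,1,2,4],[1,4,2,4,3,4,0,4,3,2,3,4],[2,2,3,4,0,2,4,1,0,0,1,4],[2,1,3,3,0,3,0,1,4,3,4,4],[3,2,1,1,3,4,3,1,3,1,1,3],[2,1,4,2,1,1,0,0,1,3,4,4],[0,0,0,3,4,1,4,4,1,4,2,1],[0,4,0,0,2,4,0,4,3,0,1,1]]),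
 ([[8,13,3],[13,2,1],[13,10,11]], [[3,0,4,4,2,3,4,1,3,2,2,3],[1,4,4,4,2,4,0,1,0,2,3,0],[3,4,4,2,3,4,0,0,1,4,2,2],[2,4,1,2,4,3,4,1,4,4,1,4],[4,1,1,1,2,1,1,0,2,3,1,0],[2,1,2,1,2,0,4,2,0,2,1,3],[0,2,2,0,3,2,2,1,2,1,3,2],[0,4,2,0,3,4,4,3,4,0,4,1],[2,3,2,1,2,2,0,1,3,3,4,2],[3,4,1,4,4,4,1,3,4,3,3,0],[1,4,2,3,1,4,0,2,1,2,0,2],[3,1,4,4,4,2,2,4,4,1,4,4]]),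
 ([[11,1,11],[8,11,2],[13,3,1]], [[0,1,2,4,2,1,0,0,1,3,4,3],[1,0,2,2,2,1,0,3,4,1,3,0],[4,4,0,4,4,1,3,3,1,4,0,2],[2,4,4,0,2,3,2,0,3,0,3,4],[1,1,2,4,4,3,0,2,4,3,2,4],[0,2,4,2,0,0,0,0,1,2,0,1],[1,4,0,0,4,4,4,3,3,2,2,0],[2,0,4,1,2,3,3,0,1,2,2,2],[4,1,3,2,3,3,3,3,1,1,0,2],[2,4,4,1,2,2,2,4,2,0,2,0],[4,2,3,4,0,0,2,1,4,1,3,1],[4,0,0,1,2,3,2,0,0,1,1,3]]),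
 ([[3,15,3],[13,8,11],[15,12,10]], [[1,4,0,3,1,1,1,3,2,3,0,0],[1,4,0,3,1,3,1,1,3,4,0,0],[2,2,1,3,2,4,4,0,4,1,4,4],[1,4,3,3,4,3,4,2,3,1,2,0],[4,2,4,3,2,4,2,3,4,0,1,1],[3,2,2,4,3,3,1,2,4,3,3,2],[3,4,1,4,0,0,4,4,1,4,1,3],[4,0,3,0,2,2,0,0,3,2,4,4],[4,2,1,1,2,2,2,1,1,3,2,2],[0,1,3,1,0,1,0,0,4,0,2,1],[4,2,0,3,3,3,1,1,4,4,2,2],[0,3,1,3,1,1,0,0,2,4,2,4]]),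
 ([[3,0,6],[2,11,15],[8,9,9]], [[3,3,4,3,2,2,1,3,2,1,1,3],[3,1,4,4,2,4,4,2,2,4,2,4],[1,3,3,3,0,4,4,0,0,1,3,3],[4,1,2,4,1,1,4,4,0,2,2,2],[3,1,3,1,3,3,1,0,4,1,1,1],[4,1,0,4,4,4,4,0,0,4,3,1],[1,2,2,1,3,4,2,3,3,3,1,3],[0,1,3,4,1,1,3,1,2,1,0,1],[3,4,3,2,0,2,1,1,4,2,0,0],[3,0,1,3,0,3,4,0,1,0,0,4],[1,2,2,2,4,0,1,1,3,1,2,2],[3,4,1,3,1,1,4,2,2,4,2,3]]),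
 ([[4,14,15],[10,10,15],[14,4,15]], [[0,4,1,1,2,4,0,3,4,2,4,4],[0,2,3,0,2,0,0,2,0,0,0,4],[2,1,3,4,0,0,0,0,1,2,1,2],[1,0,4,0,4,0,4,0,4,2,4,2],[2,0,3,4,2,2,2,4,3,0,2,1],[1,1,1,4,4,3,3,0,3,4,4,0],[1,3,3,0,2,0,4,1,4,1,0,2],[4,2,1,3,0,0,0,0,3,1,3,1],[2,1,3,4,3,4,3,4,3,1,3,1],[0,1,1,1,0,2,2,3,2,1,0,3],[4,0,3,1,2,3,4,4,0,0,3,2],[1,3,0,3,0,0,2,2,3,2,2,4]]),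
 ([[14,0,3],[15,7,7],[14,9,10]], [[4,1,0,0,3,0,3,1,4,1,2,1],[1,4,1,1,1,1,1,2,4,2,3,4],[1,2,2,0,3,1,0,0,1,0,4,0],[0,3,1,2,2,0,0,4,3,2,2,3],[3,0,3,2,0,2,0,0,0,3,4,3],[1,2,0,2,1,4,2,4,1,0,1,2],[3,0,1,0,3,3,0,4,2,0,1,1],[4,4,2,3,0,3,3,1,1,1,1,2],[1,1,4,1,1,1,4,4,0,4,3,4],[0,3,1,1,0,3,1,0,2,2,3,1],[1,0,1,4,0,0,0,1,3,1,1,2],[0,4,0,3,3,3,1,1,3,3,0,0]]),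
 ([[2,8,3],[11,2,8],[12,11,2]], [[1,4,4,2,0,2,2,2,0,2,4,4],[0,4,3,4,0,1,3,1,3,1,2,1],[0,3,0,3,2,3,4,0,4,3,0,3],[1,2,3,2,2,0,2,4,0,2,0,1],[0,1,1,2,2,0,1,4,3,1,1,2],[0,1,2,1,1,2,3,0,4,1,1,0],[2,1,2,3,3,1,2,2,3,4,2,0],[2,0,0,1,4,0,3,1,2,2,4,4],[1,0,1,3,4,2,4,4,2,1,4,0],[4,2,2,1,4,0,1,3,4,3,4,4],[2,1,3,3,0,4,2,2,0,2,4,4],[0,3,3,3,0,0,4,4,2,1,3,2]]),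
 ([[10,7,3],[10,11,11],[12,8,1]], [[1,1,0,0,0,3,2,4,2,0,4,3],[2,0,3,0,2,0,4,1,0,2,0,4],[1,3,0,0,0,1,3,0,3,2,4,4],[1,0,1,2,2,4,3,2,0,2,2,2],[1,3,1,3,2,3,2,2,1,1,1,2],[1,1,4,0,1,4,1,4,3,0,4,1],[2,3,0,1,2,2,0,3,3,2,3,0],[0,1,0,2,0,1,2,2,3,2,0,1],[2,4,2,2,1,4,3,4,0,2,1,4],[2,1,0,0,4,4,4,0,2,2,4,4],[4,3,4,2,2,1,4,0,4,1,3,1],[3,4,3,0,3,4,0,3,4,3,1,4]]),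
 ([[9,10,5],[1,4,6],[9,6,15]], [[1,2,3,2,3,2,0,2,4,1,4,2],[4,4,0,2,3,1,1,0,3,4,0,2],[4,3,0,3,1,1,2,4,4,2,2,3],[0,4,3,2,0,3,0,4,4,1,0,2],[1,3,4,4,0,0,2,4,4,0,4,2],[0,1,0,0,2,3,0,4,4,2,1,2],[0,3,4,1,4,4,4,3,4,0,2,3],[4,3,3,4,1,3,2,3,2,1,3,0],[4,2,0,1,1,4,2,2,1,2,3,3],[2,0,2,4,1,4,3,4,3,3,3,2],[4,3,3,1,2,2,3,4,2,0,2,3],[4,1,0,2,2,3,3,1,1,3,2,2]]),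
 ([[14,12,6],[12,8,10],[5,15,6]], [[1,4,2,2,3,3,4,3,3,3,2,3],[3,0,2,1,2,4,0,1,1,4,4,2],[3,1,2,2,3,4,1,4,4,0,2,3],[4,3,2,3,4,4,2,4,2,1,1,1],[1,3,0,2,0,1,0,1,1,3,2,1],[3,1,3,0,3,3,1,1,2,1,3,1],[4,1,4,4,0,1,0,4,1,3,3,1],[1,3,1,2,4,4,0,0,1,3,1,3],[2,0,0,1,3,4,1,4,2,3,4,1],[1,0,2,2,3,1,1,0,0,4,4,2],[0,3,4,1,3,3,0,0,1,0,3,0],[0,3,3,1,1,1,4,1,0,0,4,2]]),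
 ([[4,6,8],[12,8,10],[4,5,15]], [[4,2,0,4,4,2,2,4,3,3,3,4],[0,3,4,3,1,1,3,1,1,4,4,0],[4,0,1,0,0,1,4,2,2,3,2,0],[0,2,3,2,3,4,1,0,1,3,3,3],[3,4,2,1,3,2,3,2,4,4,4,0],[4,2,0,1,1,3,1,0,4,1,3,4],[0,2,4,2,4,1,0,2,4,1,0,4],[4,0,4,0,4,3,1,4,0,3,1,0],[4,2,2,2,2,1,0,4,4,3,0,3],[0,4,0,4,1,1,0,1,2,2,3,1],[4,2,2,4,4,2,3,2,2,2,3,2],[1,0,3,4,0,4,1,3,3,2,2,1]]),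
 ([[7,14,0],[3,1,13],[12,4,6]], [[2,4,4,2,2,3,1,2,3,2,2,2],[2,0,1,1,2,0,3,2,0,0,4,2],[4,2,4,3,1,4,3,1,2,0,4,1],[3,0,4,4,3,0,2,0,3,0,3,3],[4,2,1,0,1,3,0,3,0,1,3,0],[3,4,3,0,2,1,3,0,1,2,1,3],[1,1,0,3,3,0,1,3,4,1,2,3],[0,2,4,1,4,1,1,4,0,0,2,3],[1,3,4,4,3,0,2,4,0,3,1,4],[1,3,0,2,4,3,0,2,3,4,4,1],[2,1,4,2,1,4,2,1,2,2,3,3],[1,1,2,0,1,3,0,3,4,0,0,1]]),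
 ([[0,2,4],[3,7,12],[5,10,6]], [[0,2,0,0,3,2,2,3,2,4,0,1],[0,4,1,2,1,0,2,4,1,2,2,3],[1,1,0,4,2,3,1,0,1,2,3,0],[4,0,0,0,1,1,3,2,2,4,0,0],[0,0,1,2,0,0,3,3,1,2,0,0],[1,2,1,2,4,1,4,2,3,1,2,4],[0,3,4,2,0,2,2,1,0,0,3,1],[2,1,0,1,0,2,0,4,3,1,3,0],[2,1,1,3,1,2,2,4,3,3,0,3],[4,3,1,2,3,3,0,1,4,2,2,2],[2,1,1,3,1,2,4,2,4,3,0,2],[3,0,4,0,1,2,1,3,3,1,4,0]]),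
 ([[9,12,4],[8,15,1],[4,8,5]], [[0,2,2,1,1,4,1,3,1,2,4,3],[4,2,4,3,3,1,0,1,0,1,1,1],[1,0,3,2,2,3,3,4,0,3,3,0],[4,3,3,1,1,4,1,1,2,3,0,1],[4,3,3,2,0,2,2,0,2,1,2,2],[4,3,0,2,0,4,1,1,2,1,3,2],[1,3,3,3,2,3,4,4,1,2,2,3],[2,1,0,3,2,4,3,4,4,1,1,0],[1,2,4,1,1,3,2,0,3,0,1,4],[1,4,2,2,4,4,0,0,3,2,4,2],[1,3,2,4,1,4,2,1,2,4,3,2],[3,4,4,3,0,1,2,0,4,0,4,4]]),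
 ([[11,9,0],[8,6,9],[11,10,13]], [[0,1,4,2,2,2,1,3,0,3,4,4],[2,1,2,3,2,1,3,1,0,0,3,3],[4,1,4,3,3,0,2,1,1,3,3,1],[4,1,0,4,2,1,4,4,1,3,4,3],[2,1,4,2,0,1,1,2,3,3,3,4],[4,2,1,4,1,0,3,2,2,0,3,4],[4,3,2,4,4,3,4,4,1,3,1,4],[2,4,2,2,1,4,0,4,3,4,1,2],[4,1,2,4,2,2,0,3,1,0,3,2],[4,2,4,4,2,4,4,0,1,3,3,0],[2,3,1,3,4,1,3,3,3,0,3,2],[1,1,4,1,3,1,4,0,0,0,2,1]]),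
 ([[10,7,13],[9,0,13],[4,5,12]], [[4,2,2,2,1,1,3,3,2,3,0,3],[2,0,2,4,1,4,2,2,2,3,2,2],[2,1,0,1,2,3,1,2,2,1,0,4],[3,1,4,2,2,0,1,0,2,1,0,4],[1,1,3,1,3,3,2,0,3,1,1,1],[3,0,3,0,4,4,4,3,1,1,2,1],[2,0,3,3,1,4,4,2,1,2,2,1],[2,1,0,3,0,1,3,2,2,0,0,0],[0,4,1,3,1,2,0,1,2,2,0,1],[3,3,2,0,3,0,4,2,0,0,3,3],[1,0,1,1,0,1,4,4,2,1,3,3],[2,3,4,0,3,3,2,0,1,2,0,3]]),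
 ([[7,3,10],[7,12,11],[8,7,13]], [[4,2,2,4,3,3,0,0,3,0,2,0],[0,0,0,2,1,2,0,1,1,4,2,3],[2,2,3,3,3,1,3,0,0,1,3,1],[0,1,3,2,3,0,1,2,2,1,3,2],[0,0,4,1,0,2,1,4,3,2,0,3],[4,3,1,1,1,0,3,4,1,3,2,2],[4,3,2,0,2,2,3,0,4,4,1,4],[0,0,2,2,1,3,4,3,1,3,2,3],[1,4,1,0,2,0,2,3,4,3,3,3],[4,1,2,4,2,3,1,2,0,1,1,3],[0,1,1,1,4,0,1,2,0,3,2,4],[2,1,2,1,3,1,0,4,4,2,4,0]]),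
 ([[12,13,2],[5,0,13],[9,14,10]], [[4,0,0,0,0,0,0,0,0,2,3,4],[4,1,0,2,0,0,3,1,3,3,1,2],[3,1,2,1,3,3,2,3,0,0,3,4],[3,3,0,0,0,0,1,0,1,4,3,3],[2,3,4,4,1,1,4,1,0,4,0,3],[0,4,1,1,3,3,0,4,3,1,4,3],[3,3,0,4,0,0,2,1,1,4,3,2],[4,4,0,1,4,0,2,4,0,1,2,0],[2,1,3,3,1,3,2,1,2,0,1,2],[1,3,2,2,1,2,4,4,2,2,1,3],[4,0,4,0,4,0,4,1,3,0,0,4],[1,1,0,1,0,3,0,4,0,1,0,1]]),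
 ([[0,9,7],[6,4,8],[13,1,2]], [[2,3,3,2,4,1,2,1,2,4,3,3],[3,2,0,4,0,3,3,4,3,0,0,2],[3,2,2,3,3,0,2,1,3,2,3,0],[0,1,4,4,1,3,2,1,3,3,1,2],[0,4,3,1,2,1,0,1,2,1,0,4],[1,2,2,4,0,2,1,0,4,2,2,1],[4,1,0,4,4,1,1,1,3,1,0,0],[3,3,2,4,1,3,1,4,2,0,1,3],[0,4,3,2,4,1,1,4,0,3,0,3],[1,4,1,3,4,4,3,4,0,1,4,3],[1,0,4,2,3,4,1,4,2,3,2,2],[2,3,2,1,2,0,4,4,3,1,2,0]]),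
 ([[11,3,1],[1,4,5],[13,0,14]], [[4,3,0,2,2,1,2,0,0,0,3,0],[3,4,1,0,0,0,2,4,1,4,1,2],[0,3,3,1,1,0,3,4,0,0,0,4],[2,4,0,2,4,4,4,3,4,2,3,4],[3,0,3,4,2,0,1,1,1,4,1,1],[1,1,2,4,1,3,1,0,2,1,4,0],[0,0,4,4,1,2,4,4,3,1,0,2],[4,2,2,0,3,0,0,2,0,2,4,0],[4,0,1,4,1,3,3,2,1,4,1,4],[2,2,1,3,1,1,0,3,1,1,3,2],[4,3,0,3,2,0,3,2,2,1,4,0],[1,3,0,4,4,1,4,3,1,2,1,0]]),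
 ([[0,14,11],[5,4,8],[2,1,2]], [[0,3,2,2,0,1,0,1,4,3,1,1],[4,2,3,4,0,3,0,3,0,3,3,4],[1,1,1,2,1,4,2,2,4,1,4,0],[0,4,4,2,2,4,4,0,1,2,0,1],[4,1,2,4,2,0,2,4,1,1,3,3],[1,2,0,1,4,4,0,0,3,1,2,4],[4,4,0,2,1,2,1,2,0,2,3,1],[1,3,0,0,1,3,1,2,2,0,2,2],[1,3,4,4,2,1,3,0,1,1,4,0],[1,3,4,4,2,1,2,0,2,4,0,4],[4,4,4,3,1,3,4,3,4,2,1,3],[3,1,2,1,3,1,1,1,4,1,0,2]]),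
 ([[3,2,15],[1,10,10],[13,3,8]], [[4,4,3,4,1,1,1,4,4,4,3,0],[0,2,3,4,4,4,0,3,3,3,2,4],[3,1,3,3,4,1,0,0,2,0,4,4],[1,2,2,3,1,3,0,3,0,2,0,3],[4,3,1,2,3,2,1,3,0,1,4,2],[0,1,3,2,2,2,0,4,2,0,4,1],[3,0,0,2,1,0,2,0,3,0,1,1],[3,4,2,1,3,4,1,1,4,4,2,4],[2,4,1,2,0,0,1,3,4,4,3,2],[1,0,3,4,1,4,1,3,2,2,4,0],[0,2,4,4,3,2,2,0,0,1,0,4],[1,1,0,2,2,1,2,1,4,2,3,4]]),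
 ([[5,10,14],[1,10,10],[9,12,9]], [[3,2,3,0,3,0,0,2,3,4,4,0],[4,1,4,3,1,1,3,0,3,3,4,1],[2,3,0,1,0,3,4,2,0,0,0,2],[0,2,0,4,3,1,1,3,3,1,4,1],[4,3,0,4,0,0,3,1,4,0,4,4],[3,2,3,1,3,4,2,1,0,2,2,3],[3,1,4,2,0,2,0,3,4,1,2,2],[2,1,2,3,0,3,2,0,1,0,4,3],[0,2,4,2,2,1,4,0,0,4,1,2],[1,4,0,0,4,2,4,0,4,0,3,0],[0,4,3,0,4,0,3,2,2,3,1,2],[4,2,2,2,4,2,2,4,4,0,0,4]]),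
 ([[9,8,4],[15,10,12],[5,8,5]], [[1,0,2,4,1,4,0,1,3,1,0,0],[2,4,3,1,0,0,3,1,0,2,1,3],[1,3,3,1,4,2,1,4,1,2,3,3],[0,1,3,4,1,4,1,0,1,0,0,1],[3,0,3,0,3,1,0,3,4,1,2,2],[4,2,3,1,3,0,3,0,2,3,0,1],[0,0,1,0,4,1,1,1,2,0,0,1],[1,0,0,4,0,3,0,3,3,2,2,3],[0,0,4,0,3,1,4,1,0,2,4,1],[3,4,3,3,3,0,4,0,4,4,0,0],[3,0,4,0,4,0,4,1,4,1,3,1],[2,2,3,4,2,3,0,2,3,2,1,1]]),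
 ([[13,15,11],[1,13,2],[13,3,1]], [[2,2,4,1,1,0,4,4,4,0,1,2],[4,2,4,3,2,1,0,2,2,4,1,0],[0,1,0,4,3,0,4,3,1,2,3,2],[2,2,0,1,0,4,4,4,2,1,2,4],[1,4,2,2,4,0,2,3,2,0,2,4],[0,0,4,4,2,3,1,0,3,4,1,1],[0,4,2,1,4,3,1,0,4,2,1,3],[4,4,0,2,3,4,0,1,1,1,1,3],[4,0,3,3,4,1,1,2,4,2,0,2],[1,3,0,4,1,0,3,4,2,0,4,2],[1,0,2,3,4,1,1,2,4,3,4,1],[2,2,4,0,3,0,4,1,0,0,4,3]]),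
 ([[8,9,14],[9,8,14],[9,9,1]], [[3,4,0,2,0,0,3,3,4,2,1,3],[3,1,3,4,0,3,1,2,4,1,2,3],[4,2,1,4,2,4,1,4,2,1,4,1],[3,2,2,4,3,0,2,3,1,2,3,0],[1,4,2,4,4,3,3,0,2,4,4,4],[0,1,0,1,4,1,2,2,4,4,4,4],[1,3,1,1,4,0,2,1,4,0,0,1],[2,3,2,0,0,1,1,4,2,4,1,0],[4,0,2,4,4,4,3,4,1,4,4,1],[4,2,4,1,2,0,3,4,3,4,2,2],[4,1,0,2,2,0,3,2,0,2,0,3],[2,4,3,4,0,3,1,2,4,1,3,0]]),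
 ([[6,12,9],[12,10,10],[5,8,6]], [[2,0,4,1,4,0,3,2,4,2,2,1],[4,0,2,3,3,1,2,2,2,1,4,0],[3,3,0,1,4,1,1,4,3,2,4,3],[3,4,2,4,1,4,3,4,2,4,0,0],[3,4,0,4,3,0,0,1,2,2,1,4],[0,4,0,3,3,1,0,4,2,1,3,4],[3,0,0,0,0,4,4,2,3,4,2,4],[2,0,3,2,3,4,4,1,0,1,2,3],[3,0,3,4,3,0,1,4,3,0,0,4],[0,0,1,0,2,0,0,4,1,3,0,1],[4,0,3,1,3,2,2,1,1,4,1,4],[0,3,3,4,0,4,3,2,3,4,3,0]]),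
 ([[14,1,6],[12,4,14],[4,4,1]], [[0,2,2,1,0,2,0,2,0,1,3,3],[3,4,4,1,1,4,0,3,3,3,4,1],[0,4,0,3,1,1,0,1,0,3,2,1],[0,2,1,2,4,2,3,1,1,2,4,2],[4,2,1,3,3,1,0,0,3,3,2,3],[3,1,1,0,1,2,0,0,4,1,4,2],[2,3,4,1,4,2,2,2,4,0,4,1],[1,4,0,1,1,4,2,2,4,4,4,1],[0,3,0,3,1,2,2,0,1,0,2,4],[1,0,2,2,4,1,2,1,0,4,3,1],[3,4,4,3,0,0,0,2,4,0,1,2],[0,2,1,2,3,1,1,3,4,4,0,3]]),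
 ([[7,1,2],[2,14,0],[8,5,9]], [[2,2,3,0,3,0,1,3,2,2,1,3],[0,0,0,0,2,3,2,1,4,2,1,3],[2,4,0,0,2,0,0,4,0,4,2,4],[2,3,2,0,2,2,1,2,0,1,4,4],[3,4,1,0,1,3,0,0,0,0,2,2],[1,3,2,3,3,2,2,1,0,2,2,0],[3,3,1,3,2,2,0,1,4,4,4,2],[4,2,2,4,0,1,3,2,0,4,0,2],[3,0,2,1,3,2,0,3,3,0,0,4],[0,1,2,4,1,0,1,4,2,2,4,4],[3,4,4,0,4,4,0,1,4,0,2,3],[0,1,3,2,4,1,1,4,2,0,1,1]]),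
 ([[9,6,1],[10,12,8],[14,9,8]], [[0,3,1,0,2,3,0,2,0,0,1,3],[2,4,1,1,2,3,2,3,3,3,4,4],[3,1,2,0,4,0,1,1,2,1,0,4],[0,3,0,3,1,0,2,3,4,0,3,2],[0,3,0,3,4,2,1,0,0,2,3,3],[1,3,2,3,2,1,4,4,0,1,4,2],[1,0,0,3,2,1,2,4,0,0,3,0],[4,2,1,0,3,3,1,0,2,1,4,4],[3,4,4,2,0,3,1,1,2,4,0,4],[0,0,1,2,4,3,4,3,1,2,3,0],[0,2,4,0,0,1,2,0,2,2,1,2],[0,3,2,1,0,2,0,4,0,2,1,3]]),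
 ([[15,11,7],[1,12,15],[1,11,2]], [[2,4,3,1,1,2,4,4,0,2,1,3],[2,2,4,1,4,2,0,3,3,0,1,3],[2,4,2,3,4,0,0,4,1,0,0,0],[3,3,1,4,3,4,0,4,2,3,1,4],[4,1,4,4,0,3,1,2,1,2,2,0],[1,0,1,4,1,1,3,2,1,3,1,2],[1,2,1,1,3,1,3,3,3,2,0,4],[0,0,1,3,4,2,3,1,3,1,1,1],[0,4,2,0,4,2,2,3,4,3,2,2],[4,0,4,4,3,0,2,2,0,1,4,1],[3,4,4,3,2,1,4,2,1,3,1,3],[4,2,3,0,2,4,3,0,4,3,3,4]]),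
 ([[9,4,12],[5,1,14],[1,9,9]], [[1,2,0,1,1,0,2,2,1,3,4,4],[2,1,2,1,4,0,2,3,3,2,3,0],[0,2,4,4,1,4,2,1,0,2,3,4],[2,4,1,0,0,4,2,4,2,1,3,4],[4,3,2,0,0,2,2,4,0,0,1,2],[2,0,1,1,1,0,4,1,4,1,2,2],[4,2,0,4,4,0,1,1,1,1,2,2],[0,0,1,1,3,4,3,2,2,0,1,0],[1,0,2,1,2,0,1,4,1,4,0,4],[3,2,1,1,0,2,2,4,0,2,3,4],[1,4,3,2,4,1,2,1,3,4,1,0],[1,0,1,0,1,3,4,4,1,3,1,2]]),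
 ([[8,7,3],[5,7,0],[14,8,4]], [[0,4,3,1,1,3,2,1,3,0,4,0],[3,0,3,3,2,2,1,1,3,0,0,4],[2,4,0,4,2,3,3,1,1,3,2,4],[2,4,0,2,2,2,0,2,1,3,4,2],[4,0,0,4,1,2,3,2,4,3,2,3],[2,3,2,0,0,2,4,4,1,3,2,3],[4,2,4,4,0,0,4,1,3,4,0,4],[4,3,1,1,1,0,4,0,2,2,0,1],[0,1,1,3,3,2,1,0,2,1,2,1],[4,1,1,0,0,2,1,1,3,3,2,1],[3,4,1,3,3,1,4,1,4,2,3,1],[3,4,0,4,4,1,2,3,3,3,3,2]]),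
 ([[3,13,10],[7,15,11],[12,11,7]], [[4,3,4,2,1,3,2,0,1,2,0,0],[0,3,2,2,0,0,2,4,0,4,4,0],[0,1,1,2,4,2,3,2,3,3,0,2],[3,2,2,2,4,1,1,2,0,2,1,2],[2,0,2,3,4,2,4,3,0,4,2,4],[2,1,0,2,0,3,2,3,2,1,2,4],[3,0,0,4,3,4,4,4,4,3,0,0],[0,1,4,0,4,1,3,1,3,2,0,1],[0,4,1,4,1,1,2,3,0,0,0,1],[1,3,0,0,4,3,3,1,0,2,3,1],[3,2,0,4,3,2,0,4,2,0,1,2],[4,3,3,1,3,3,3,2,4,0,1,4]]),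
 ([[0,6,7],[0,13,5],[15,0,0]], [[0,2,2,1,0,4,1,2,0,4,3,2],[3,2,4,4,3,0,3,2,2,0,0,4],[1,2,2,0,0,1,2,1,0,4,4,1],[1,4,2,0,1,1,1,1,2,0,4,3],[2,4,4,3,1,4,2,1,1,2,3,2],[1,1,3,0,1,3,3,2,4,1,3,4],[2,4,1,0,3,1,1,3,3,0,1,3],[4,1,3,1,2,0,0,0,2,1,1,4],[4,2,0,1,4,2,3,0,4,4,1,3],[2,0,0,3,1,0,1,4,0,3,2,2],[4,2,3,4,3,0,3,2,0,0,4,1],[2,0,0,4,2,1,4,0,2,1,0,4]]),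
 ([[2,7,12],[0,11,5],[4,12,4]], [[2,4,4,3,0,3,2,3,3,3,4,3],[0,3,2,3,0,0,0,0,0,0,2,0],[2,1,4,1,3,0,4,1,3,4,1,0],[2,4,3,1,1,0,2,2,2,3,2,3],[1,2,0,3,1,1,4,3,3,1,1,3],[3,1,4,1,1,2,3,0,1,2,4,3],[2,2,1,0,2,3,3,2,4,0,3,0],[3,0,3,3,4,4,3,3,1,4,4,4],[2,2,1,3,1,4,0,0,4,3,2,2],[2,1,4,3,0,3,4,0,1,2,3,0],[2,1,2,1,0,2,3,4,3,1,0,4],[1,3,1,1,2,2,2,1,2,1,4,4]]),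
 ([[0,4,11],[5,6,1],[13,1,7]], [[3,2,1,0,2,2,3,4,0,1,3,0],[0,4,3,0,1,2,2,4,2,1,0,4],[3,2,1,1,3,1,1,2,3,0,4,4],[4,4,0,3,1,1,4,2,3,1,0,3],[0,2,0,4,0,3,4,2,4,3,2,3],[3,4,4,0,3,1,3,0,0,2,1,3],[4,4,0,4,1,1,1,4,2,3,0,2],[2,3,3,4,2,4,2,4,1,2,1,0],[0,1,3,2,4,1,2,2,2,2,1,2],[0,1,3,2,4,1,3,1,1,0,1,0],[1,4,4,2,1,2,1,0,3,1,2,0],[1,4,4,2,1,2,3,3,4,4,3,0]]),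
 ([[4,14,10],[10,10,10],[9,6,15]], [[0,3,1,1,2,1,1,3,4,0,0,3],[1,4,1,0,1,4,3,4,1,3,3,0],[1,1,1,2,2,1,0,4,0,3,2,2],[3,2,2,4,0,0,1,1,2,4,3,0],[1,1,3,1,4,0,2,0,3,1,3,2],[1,0,2,3,1,1,3,2,3,4,3,0],[4,4,2,2,4,2,1,0,3,0,1,3],[2,3,1,4,0,0,3,0,4,0,3,3],[0,1,2,1,1,0,0,3,2,2,0,4],[2,1,1,1,1,4,1,2,3,4,1,2],[3,0,3,0,3,0,4,3,4,2,0,0],[0,1,1,2,2,2,0,4,0,3,4,4]]),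
 ([[12,8,8],[12,11,3],[10,11,7]], [[1,4,3,0,1,1,2,3,3,0,0,0],[4,0,1,3,0,4,3,3,0,1,0,3],[1,1,4,2,2,3,4,2,3,2,2,1],[4,0,1,2,4,2,3,4,0,4,3,3],[3,4,0,1,0,1,2,2,1,1,3,4],[0,0,3,1,0,2,0,4,2,3,0,1],[0,2,2,4,1,3,4,2,0,1,1,2],[0,4,2,1,1,0,1,1,3,4,1,1],[1,1,2,3,2,3,2,0,0,4,0,0],[1,1,2,2,1,0,3,2,1,4,3,3],[3,4,3,3,1,0,1,0,0,4,0,2],[1,0,0,2,1,1,2,0,0,3,3,2]]),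
 ([[2,6,0],[11,12,11],[8,4,5]], [[3,2,2,2,4,4,3,1,0,3,3,3],[2,1,3,4,1,2,4,4,4,1,3,3],[4,4,3,1,1,4,2,0,4,3,2,3],[1,4,0,1,4,2,3,2,4,1,3,3],[0,1,1,2,1,3,0,4,1,0,0,4],[0,4,3,1,2,3,0,2,2,4,3,3],[1,0,2,1,4,2,4,0,1,2,1,4],[4,2,0,3,3,3,2,1,1,2,0,2],[4,4,3,1,1,0,0,0,4,2,2,0],[1,4,2,4,3,3,1,3,4,0,1,3],[0,3,1,1,2,1,0,4,4,0,0,1],[0,2,1,0,1,3,4,2,1,1,2,3]]),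
 ([[0,2,6],[3,7,10],[6,12,6]], [[1,2,3,1,2,3,0,2,0,2,1,4],[2,3,3,3,3,4,2,0,2,1,1,4],[3,2,3,2,2,4,1,1,0,0,2,3],[1,2,3,1,3,4,0,0,3,4,4,0],[4,3,0,4,4,1,3,3,1,2,3,3],[2,1,2,3,3,3,3,4,1,4,2,1],[3,3,1,2,2,1,3,4,2,2,0,3],[4,3,4,2,4,4,2,0,3,2,4,3],[3,1,0,3,0,4,1,2,1,2,1,0],[1,4,3,4,4,1,2,1,0,1,4,2],[3,3,1,2,2,3,4,0,2,0,4,2],[1,2,2,0,2,1,4,0,0,0,0,2]]),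
 ([[12,3,2],[15,10,8],[10,7,2]], [[2,1,4,3,3,4,0,3,3,1,2,1],[0,0,1,4,0,4,4,3,2,2,1,3],[2,4,3,3,2,1,4,0,4,4,2,2],[4,3,2,0,1,4,3,2,4,2,0,4],[1,2,2,0,1,3,1,2,1,2,3,3],[0,2,1,2,0,1,0,4,2,1,3,4],[2,2,4,3,1,0,4,2,2,3,3,4],[2,0,0,1,1,4,4,3,3,4,4,0],[0,1,3,3,1,2,3,1,4,3,1,1],[2,3,0,1,2,3,0,3,3,2,3,2],[4,4,2,4,3,2,3,3,4,4,3,2],[4,2,1,3,4,2,2,2,0,4,3,2]]),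
 ([[13,7,15],[1,10,1],[13,3,10]], [[1,2,3,1,1,1,2,1,0,2,0,0],[2,2,1,3,0,3,3,2,4,2,3,1],[1,4,0,3,1,0,1,4,3,1,0,0],[1,0,2,4,1,3,4,2,0,1,1,1],[3,3,3,0,0,1,2,3,3,0,2,4],[0,0,2,3,3,3,3,3,0,4,4,3],[3,2,3,4,2,2,0,4,3,4,2,4],[1,2,0,1,2,4,0,2,2,0,3,1],[1,2,0,1,3,2,4,0,2,0,2,2],[0,2,1,2,1,2,2,4,3,0,1,1],[0,3,1,2,3,1,4,4,1,3,0,3],[3,1,1,3,1,2,1,4,0,4,4,0]]),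
 ([[6,12,14],[4,9,15],[8,14,6]], [[2,2,2,4,3,1,0,3,2,1,0,3],[3,0,4,2,2,3,2,1,1,3,3,1],[0,2,2,3,4,0,0,4,0,0,1,3],[1,0,2,3,2,2,1,0,3,2,3,2],[2,4,0,4,2,1,0,4,3,4,1,4],[4,0,3,3,1,4,2,2,1,2,1,1],[3,0,0,0,0,3,4,4,0,4,3,0],[0,0,3,2,1,0,3,3,1,2,4,3],[0,0,0,4,2,0,1,0,1,4,3,1],[4,0,0,2,1,3,3,2,2,3,1,1],[3,1,2,4,1,1,0,0,0,1,0,0],[2,3,2,2,3,4,2,2,2,2,1,0]]),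
 ([[8,12,10],[15,5,6],[12,14,6]], [[4,3,1,3,0,2,1,2,4,2,3,2],[2,2,0,3,2,4,1,2,1,1,0,0],[0,4,0,4,1,1,4,3,1,2,4,3],[1,4,2,4,2,2,1,3,0,0,3,0],[3,2,4,2,3,1,2,0,3,3,0,4],[1,1,0,0,2,1,3,1,0,2,4,2],[1,0,4,2,0,1,1,0,2,3,4,1],[0,1,0,1,2,3,1,3,3,0,3,3],[4,1,3,2,4,0,4,4,1,1,1,2],[4,0,2,4,1,1,4,4,4,2,0,3],[3,1,3,4,1,1,4,2,2,2,3,3],[3,1,1,1,0,3,2,3,2,4,0,0]]),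
 ([[10,7,2],[15,2,2],[12,12,10]], [[4,4,4,4,3,0,1,1,1,1,3,1],[2,1,4,3,0,2,3,0,2,4,3,2],[0,1,1,0,4,1,2,1,3,1,4,2],[0,1,3,1,3,2,0,3,0,3,0,3],[1,4,4,1,2,3,2,3,2,4,4,4],[0,1,3,2,1,0,1,1,2,0,4,1],[3,1,3,4,3,3,2,0,1,0,2,2],[2,0,1,0,3,4,4,1,3,3,4,2],[4,0,1,4,0,4,4,1,2,1,0,3],[3,1,3,1,4,2,3,1,2,0,2,0],[1,4,2,1,4,0,2,4,3,1,2,4],[0,3,1,1,1,4,4,0,2,1,2,4]]),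
 ([[12,6,14],[3,8,3],[2,6,0]], [[1,3,1,1,1,0,2,3,3,4,3,3],[2,4,3,0,0,4,1,2,0,3,4,3],[0,0,3,3,0,4,2,0,0,4,3,3],[0,1,1,3,2,2,4,3,1,0,4,2],[2,4,3,1,4,1,4,0,3,0,3,1],[1,0,3,4,2,1,0,4,3,0,0,2],[4,4,2,4,3,3,4,4,0,4,2,1],[1,0,0,2,4,3,3,2,0,0,0,1],[2,0,1,4,2,2,2,3,4,2,4,2],[0,2,4,2,4,1,1,1,0,1,2,2],[1,4,2,2,3,4,1,3,4,3,3,1],[1,4,1,2,1,2,4,1,4,3,4,0]]),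
 ([[2,8,2],[3,8,13],[1,8,15]], [[1,0,3,2,4,3,1,4,4,0,3,2],[2,4,0,1,1,4,1,4,4,2,0,3],[4,3,1,3,3,0,3,2,4,1,4,3],[2,0,4,4,4,4,1,3,4,3,4,3],[3,4,0,4,1,4,0,4,1,0,0,0],[0,1,1,2,0,1,1,4,1,2,3,1],[2,1,0,3,3,3,2,3,0,3,2,0],[3,4,3,3,2,3,1,3,3,2,3,1],[3,4,4,2,1,4,4,2,0,0,2,4],[4,1,1,2,0,3,4,4,4,2,0,1],[0,3,1,3,4,3,4,2,0,0,3,4],[0,0,4,2,0,0,0,4,3,1,2,3]]),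
 ([[6,4,12],[1,12,8],[14,14,12]], [[3,2,2,0,3,4,1,3,4,1,2,4],[0,3,3,4,2,2,0,4,3,4,4,3],[2,1,4,1,3,1,0,1,4,0,3,0],[2,2,4,1,2,2,0,1,4,3,0,0],[2,1,1,1,0,1,3,3,0,0,0,4],[0,0,1,3,4,2,0,3,0,1,2,0],[0,3,0,1,3,4,3,1,1,2,4,0],[4,1,2,3,3,2,2,4,0,2,2,0],[4,0,1,0,3,2,3,0,3,3,1,0],[2,1,4,2,2,1,4,0,2,3,0,4],[1,3,4,2,3,2,1,4,1,4,4,0],[1,2,0,2,2,4,0,3,2,1,3,2]]),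
 ([[8,4,5],[1,5,14],[8,10,12]], [[1,4,2,2,4,3,4,0,1,0,2,0],[0,4,1,0,1,0,4,2,0,1,4,2],[0,0,1,3,0,3,3,1,1,2,3,4],[3,4,0,0,1,1,2,0,3,1,0,0],[2,0,3,4,4,3,0,2,3,0,0,4],[4,1,0,4,3,4,4,0,1,0,3,3],[3,4,4,4,0,2,1,1,3,0,4,2],[4,2,3,1,3,0,4,0,0,0,3,2],[2,0,0,2,4,1,1,4,1,3,4,2],[1,4,0,1,1,3,4,0,0,0,4,4],[2,3,4,1,2,1,3,0,4,1,3,3],[1,0,4,1,2,2,0,0,3,0,1,1]]),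
 ([[10,4,4],[11,7,1],[13,0,14]], [[2,2,1,4,3,3,1,0,4,1,1,1],[2,0,2,2,4,1,4,3,3,1,3,4],[1,0,1,0,2,4,2,1,1,1,3,3],[3,1,4,0,1,2,1,4,4,3,4,4],[1,4,3,4,2,3,2,3,2,0,1,2],[3,2,1,3,2,0,2,3,3,0,4,3],[1,3,2,3,2,0,1,2,2,0,4,4],[2,4,4,3,3,2,3,0,1,2,0,0],[1,2,2,4,1,4,4,1,4,3,3,3],[0,0,2,1,1,2,1,4,3,2,3,0],[1,2,4,4,3,3,3,0,1,2,3,2],[2,1,3,2,0,1,4,0,4,0,1,0]]),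
 ([[6,8,5],[5,15,5],[15,8,12]], [[3,2,3,1,3,2,1,4,4,3,3,1],[1,0,4,3,2,0,1,2,4,4,4,1],[1,3,2,3,2,1,4,3,4,4,1,0],[0,3,0,1,0,1,2,1,3,1,1,3],[2,4,0,2,4,0,1,1,0,0,3,1],[2,3,4,3,1,1,0,0,4,3,4,0],[2,1,3,0,1,1,3,4,0,3,1,3],[1,3,4,1,3,0,2,3,4,3,1,4],[4,1,0,1,3,3,0,0,3,3,2,2],[0,2,2,4,3,3,3,0,4,4,2,1],[4,3,1,3,2,1,2,4,4,0,4,4],[0,3,3,3,4,0,3,2,1,1,1,2]]),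
 ([[7,8,3],[11,8,11],[10,12,12]], [[1,2,1,0,1,4,2,2,3,2,3,2],[4,3,0,2,2,1,2,4,0,0,0,1],[2,4,3,4,2,1,4,2,2,4,3,4],[4,2,3,0,2,3,2,1,2,0,1,4],[2,1,1,3,0,3,2,1,0,1,0,0],[0,1,1,0,1,4,4,0,1,4,3,4],[3,2,4,0,1,1,0,2,0,2,0,3],[2,1,3,3,4,1,1,3,0,0,3,2],[0,1,1,3,3,2,1,1,1,2,1,1],[0,3,1,0,0,4,0,2,3,4,3,1],[0,1,2,3,1,2,4,3,4,3,2,1],[1,3,4,1,4,2,4,1,4,2,3,4]]),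
 ([[2,1,11],[3,12,2],[8,12,15]], [[3,1,2,2,2,3,0,4,3,4,1,1],[0,3,4,4,1,2,2,2,3,0,3,2],[3,4,2,0,0,1,3,4,4,4,3,4],[0,2,4,4,3,4,2,4,2,1,4,4],[3,4,2,2,4,0,3,0,3,0,3,4],[3,0,0,0,4,4,0,1,0,0,2,4],[0,2,2,2,4,4,0,3,1,2,0,3],[1,4,2,0,0,4,4,4,2,1,1,1],[2,0,1,0,4,2,3,3,0,2,1,3],[2,0,3,3,2,2,3,3,1,3,0,4],[3,4,2,3,0,2,4,3,0,4,2,4],[4,1,0,2,4,2,1,2,2,2,1,1]]),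
 ([[10,8,12],[2,12,7],[3,15,3]], [[0,3,4,1,4,4,4,3,3,4,4,3],[1,3,1,1,2,2,2,1,4,1,4,4],[3,1,3,2,3,0,1,2,2,2,1,2],[1,2,2,0,2,3,2,0,2,2,1,0],[1,0,0,1,3,4,4,1,0,1,2,4],[2,3,2,4,1,0,1,3,4,2,0,2],[4,3,3,3,0,1,1,4,1,3,1,1],[0,0,2,1,2,0,2,1,4,2,3,2],[4,2,2,2,3,4,1,3,2,0,1,0],[0,0,0,0,4,0,0,3,2,1,4,3],[3,3,2,0,3,1,1,3,4,1,3,0],[1,2,4,1,4,0,3,4,2,2,3,3]]),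
 ([[13,7,8],[13,15,2],[8,13,3]], [[3,4,3,1,4,3,1,3,2,3,3,3],[1,4,4,4,3,4,4,0,3,2,4,0],[1,2,1,0,0,0,1,0,4,4,1,4],[1,1,2,1,0,4,4,3,3,0,2,0],[2,3,1,0,2,0,0,2,3,1,2,3],[3,0,3,0,3,3,4,4,4,0,4,2],[0,4,4,4,2,2,1,1,1,3,4,4],[2,3,2,1,2,2,0,1,3,3,4,2],[4,1,2,2,2,3,1,4,3,3,2,4],[4,1,2,4,4,3,1,2,1,1,1,3],[3,0,4,4,2,3,4,1,3,2,2,3],[3,1,4,0,2,2,1,0,0,2,1,3]]),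
 ([[4,4,8],[8,4,4],[4,8,4]], [[1,4,1,0,4,3,2,4,2,2,1,0],[4,4,2,1,2,2,3,3,0,0,2,4],[4,3,3,2,4,2,2,2,3,1,2,3],[0,4,3,2,0,3,1,4,1,0,4,3],[0,4,0,0,4,0,4,2,3,1,0,2],[2,2,2,4,2,3,1,0,2,1,3,0],[0,2,2,2,0,4,3,2,3,3,0,2],[3,1,0,2,3,4,4,2,0,2,2,3],[4,2,4,3,0,1,0,2,2,2,3,4],[2,1,2,0,0,1,4,1,4,3,4,2],[1,2,0,4,1,0,3,1,3,4,1,0],[3,4,3,2,2,0,4,4,2,2,4,2]])]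

/-- Parents at level 3. -/
def P3 : List (Nat × Nat) := [(0, 0), (0, 0), (0, 1), (1, 0), (1, 1), (2, 0), (2, 1), (3, 0), (3, 1), (4, 0), (4, 1), (5, 0), (5, 1), (7, 0), (7, 1), (8, 1), (9, 0), (10, 0), (10, 1), (11, 1), (12, 0), (12, 1), (13, 0), (14, 0), (14, 1), (15, 1), (16, 0), (16, 1), (17, 0), (17, 1), (18, 1), (19, 1), (20, 1), (21, 0), (22, 0), (22, 1), (23, 1), (24, 0), (24, 1), (25, 0), (25, 1), (26, 0), (27, 1), (28, 0), (29, 1), (32, 0), (32, 1), (33, 0), (33, 1), (34, 0), (34, 1), (37, 1), (39, 0), (40, 1), (42, 1), (43, 1), (44, 0), (44, 1), (45, 1), (47, 0), (48, 0), (48, 1), (49, 0), (50, 0), (51, 0)]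

/-- Closing data of level 3. -/
def C3 : List (List (List Nat × Nat)) := [[([0, 0, 0], 1), ([0, 0, 0], 2)],
 [([0, 0, 0], 3), ([0, 0, 0], 4)],
 [([0, 0, 0], 5), ([0, 0, 0], 6)],
 [([0, 0, 0], 7), ([0, 0, 0], 8)],
 [([0, 0, 0], 9), ([0, 0, 0], 10)],
 [([0, 0, 0], 11), ([0, 0, 0], 12)],
 [([1, 1, 12], 12), ([2, 6, 9], 0)],
 [([0, 0, 0], 13), ([0, 0, 0], 14)],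
 [([2, 10, 2], 10), ([0, 0, 0], 15)],
 [([0, 0, 0], 16), ([0, 0, 14], 13)],
 [([0, 0, 0], 17), ([0, 0, 0], 18)],
 [([3, 2, 6], 2), ([0, 0, 0], 19)],
 [([0, 0, 0], 20), ([0, 0, 0], 21)],
 [([0, 0, 0], 22), ([2, 6, 9], 5)],
 [([0, 0, 0], 23), ([0, 0, 0], 24)],
 [([2, 2, 7], 4), ([0, 0, 0], 25)],
 [([0, 0, 0], 26), ([0, 0, 0], 27)],
 [([0, 0, 0], 28), ([0, 0, 0], 29)],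
 [([3, 7, 3], 15), ([0, 0, 0], 30)],
 [([0, 5, 1], 18), ([0, 0, 0], 31)],
 [([1, 1, 11], 25), ([0, 0, 0], 32)],
 [([0, 0, 0], 33), ([1, 4, 10], 17)],
 [([0, 0, 0], 34), ([0, 0, 0], 35)],
 [([1, 9, 14], 29), ([0, 0, 0], 36)],
 [([0, 0, 0], 37), ([0, 0, 0], 38)],
 [([0, 0, 0], 39), ([0, 0, 0], 40)],
 [([0, 0, 0], 41), ([0, 11, 0], 16)],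
 [([0, 5, 2], 27), ([0, 0, 0], 42)],
 [([0, 0, 0], 43), ([0, 10, 11], 23)],
 [([3, 12, 11], 19), ([0, 0, 0], 44)],
 [([0, 0, 0], 35), ([2, 0, 8], 26)],
 [([0, 12, 12], 8), ([1, 10, 5], 22)],
 [([0, 0, 0], 45), ([0, 0, 0], 46)],
 [([0, 0, 0], 47), ([0, 0, 0], 48)],
 [([0, 0, 0], 49), ([0, 0, 0], 50)],
 [([0, 7, 7], 6), ([2, 7, 5], 7)],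
 [([0, 0, 7], 36), ([0, 5, 5], 45)],
 [([2, 13, 0], 14), ([0, 0, 0], 51)],
 [([0, 10, 10], 40), ([1, 0, 5], 47)],
 [([0, 0, 0], 52), ([1, 0, 10], 1)],
 [([0, 0, 0], 50), ([0, 0, 0], 53)],
 [([1, 2, 7], 51), ([2, 0, 8], 41)],
 [([1, 8, 11], 32), ([0, 0, 0], 54)],
 [([1, 14, 0], 30), ([0, 0, 0], 55)],
 [([0, 0, 0], 56), ([0, 0, 0], 57)],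
 [([3, 9, 13], 57), ([0, 0, 0], 58)],
 [([1, 13, 10], 53), ([2, 2, 2], 37)],
 [([0, 0, 0], 59), ([2, 3, 6], 43)],
 [([0, 0, 0], 60), ([0, 0, 0], 61)],
 [([0, 0, 0], 62), ([1, 0, 5], 59)],
 [([0, 0, 0], 63), ([3, 9, 10], 39)],
 [([0, 0, 0], 64), ([1, 15, 1], 33)],
 [([3, 8, 7], 61), ([0, 1, 14], 56)],
 [([2, 10, 2], 55), ([3, 8, 7], 9)],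
 [([1, 5, 9], 38), ([1, 2, 2], 49)],
 [([0, 11, 3], 44), ([3, 11, 10], 52)],
 [([3, 2, 12], 58), ([2, 8, 3], 60)],
 [([1, 13, 6], 54), ([3, 11, 5], 3)],
 [([0, 0, 0], 0), ([0, 6, 13], 20)],
 [([3, 10, 1], 42), ([0, 7, 10], 34)],
 [([3, 2, 7], 21), ([0, 9, 12], 11)],
 [([3, 8, 9], 31), ([2, 0, 14], 64)],
 [([2, 11, 3], 46), ([1, 4, 4], 28)],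
 [([0, 2, 3], 48), ([1, 4, 13], 63)],
 [([0, 1, 2], 24), ([0, 0, 10], 62)]]

/-- A word of order 10. -/
def w10 : List Nat := [0, 0, 1, 0, 1, 0, 1, 1]

/-- A word of order 13. -/
def w13 : List Nat := [0, 0, 0, 0, 0, 1]

/-- A word of order 15. -/
def w15 : List Nat := [0]

/-- The inverse of `u - 1`. -/
def d13 : List (List Nat) := [[2, 1, 2, 1, 3, 1, 2, 3, 2, 1, 4, 3], [1, 1, 2, 2, 1, 4, 1, 4, 4, 0, 2, 2], [0, 1, 1, 1, 0, 3, 4, 3, 2, 2, 0, 4], [4, 1, 4, 4, 1, 0, 1, 0, 1, 4, 2, 2], [2, 4, 4, 4, 4, 0, 0, 3, 2, 0, 2, 3], [3, 1, 0, 2, 1, 0, 0, 3, 4, 4, 3, 2], [3, 0, 1, 1, 2, 2, 0, 2, 0, 0, 4, 4], [1, 1, 2, 2, 1, 3, 0, 2, 1, 4, 3, 0], [3, 1, 0, 3, 4, 2, 0, 0,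 0, 3, 0, 0], [1, 0, 3, 3, 4, 0, 4, 0, 0, 0, 4, 2], [4, 4, 2, 4, 1, 2, 1, 1, 3, 3, 2, 3], [2, 0, 3, 1, 3, 0, 3, 2, 0, 1, 2, 3]]

end Cfsg.Agent.PrimeGraphU34
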