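import Mathlib.Data.Matrix.Mul
import Mathlib.Algebra.BigOperators.Fin
import Mathlib.Data.List.GetD

/-! Matrices as lists of rows of natural numbers. -/

set_option autoImplicit false

namespace Cfsg.Agent.PrimeGraphU34

/-- A row times a matrix. -/
def rowMul (add mul : Nat → Nat → Nat) (n : Nat) : List Nat → List (List Nat) → List Nat
  | a :: row, b :: B => List.zipWith (fun x y => add (mul a x) y) b (rowMul add mul n row B)
  | _, _ => List.replicate n 0

/-- The product of two matrices. -/
def mulL (add mul : Nat → Nat → Nat) (n : Nat) (A B : List (List Nat)) : List (List Nat) :=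
  A.map fun row => rowMul add mul n row B

/-- The identity matrix. -/
def oneL (n : Nat) : List (List Nat) :=
  (List.range n).map fun i => (List.range n).map fun j => if i = j then 1 else 0

/-- The shape of a square matrix. -/
def sq (n : Nat) (A : List (List Nat)) : Bool :=
  decide (A.length = n) && A.all fun r => decide (r.length = n)

variable {R : Type*} [CommSemiring R] (φ : Nat → R) {add mul : Nat → Nat → Nat}

/-- The matrix of a list of rows. -/
def toMat (n : Nat) (A : List (List Nat)) : Matrix (Fin n) (Fin n) R :=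
  Matrix.of fun i j => φ ((A.getD i []).getD j 0)

theorem sq_iff {n : Nat} {A : List (List Nat)} :
    sq n A = true ↔ A.length = n ∧ ∀ r ∈ A, r.length = n := by
  simp [sq]

theorem rowMul_spec (h0 : φ 0 = 0) (ha : ∀ a b, φ (add a b) = φ a + φ b)
    (hm : ∀ a b, φ (mul a b) = φ a * φ b) (n : Nat) :
    ∀ (row : List Nat) (B : List (List Nat)), row.length = B.length → (∀ r ∈ B, r.length = n) →
      (rowMul add mul n row B).length = n ∧ ∀ j, j < n → φ ((rowMul add mul n row B).getD j 0) =
        ∑ i : Fin B.length, φ (row.getD i 0) * φ ((B.getD i []).getD j 0) := by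
  intro row
  induction row with
  | nil =>
    intro B hl _
    cases B with
    | nil => exact ⟨by simp [rowMul], fun j hj => by simp [rowMul, hj, h0]⟩
    | cons b B => simp at hl
  | cons a row ih =>
    intro B hl hB
    cases B with
    | nil => simp at hl
    | cons b B =>
      obtain ⟨h1, h2⟩ := ih B (by simpa using hl) (fun r hr => hB r (by simp [hr]))
      have hb := hB b (by simp)
      have hlen : (rowMul add mul n (a :: row) (b :: B)).length = n := by
        simp [rowMul, hb, h1]
      refine ⟨hlen, fun j hj => ?_⟩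
      rw [List.getD_eq_getElem _ _ (lt_of_lt_of_eq hj hlen.symm), List.length_cons, Fin.sum_univ_succ]
      simp only [rowMul, List.getElem_zipWith, ha, hm]
      rw [← List.getD_eq_getElem _ (0 : Nat) (lt_of_lt_of_eq hj hb.symm),
        ← List.getD_eq_getElem _ (0 : Nat) (lt_of_lt_of_eq hj h1.symm),
        h2 j hj]
      simp

theorem toMat_mulL (h0 : φ 0 = 0) (ha : ∀ a b, φ (add a b) = φ a + φ b)
    (hm : ∀ a b, φ (mul a b) = φ a * φ b) {n : Nat} {A B : List (List Nat)}
    (hA : sq n A = true) (hB : sq n B = true) :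
    sq n (mulL add mul n A B) = true ∧
      toMat φ n (mulL add mul n A B) = toMat φ n A * toMat φ n B := by
  obtain ⟨hA1, hA2⟩ := sq_iff.1 hA
  obtain ⟨hB1, hB2⟩ := sq_iff.1 hB
  refine ⟨sq_iff.2 ⟨by simp [mulL, hA1], fun r hr => ?_⟩, ?_⟩
  · obtain ⟨row, hrow, rfl⟩ := List.mem_map.1 hr
    exact (rowMul_spec φ h0 ha hm n row B (by rw [hA2 row hrow, hB1]) hB2).1
  · ext i j
    have hi : (i : Nat) < A.length := hA1 ▸ i.2
    have hrow : A.getD i [] ∈ A := by
      rw [List.getD_eq_getElem _ _ hi]; exact List.getElem_mem hi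
    have e : (mulL add mul n A B).getD i [] = rowMul add mul n (A.getD i []) B := by
      simp [mulL, List.getD_eq_getElem?_getD, hi]
    simp only [Matrix.mul_apply, toMat, Matrix.of_apply, e]
    rw [(rowMul_spec φ h0 ha hm n _ B (by rw [hA2 _ hrow, hB1]) hB2).2 j j.2]
    subst hB1
    rfl

theorem toMat_oneL (h0 : φ 0 = 0) (h1 : φ 1 = 1) (n : Nat) :
    toMat φ n (oneL n) = 1 := by
  ext i j
  simp [toMat, oneL, List.getD_eq_getElem?_getD, Matrix.one_apply, Fin.ext_iff, apply_ite φ, h0, h1]

end Cfsg.Agent.PrimeGraphU34
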