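import Cfsg.Agent.PrimeGraphU34.Field
import Cfsg.Agent.PrimeGraphU34.Lists
import Mathlib.Algebra.Group.Submonoid.Membership
import Mathlib.Data.ZMod.Basic

/-! The submonoid of pairs of matrices generated by the two certified pairs. -/

set_option autoImplicit false
set_option maxRecDepth 100000
set_option Elab.async false

namespace Cfsg.Agent.PrimeGraphU34

open Matrix

/-- Addition modulo 5. -/
def fadd (a b : Nat) : Nat := (a + b) % 5

/-- Multiplication modulo 5. -/
def fmul (a b : Nat) : Nat := a * b % 5

/-- Pairs of matrices. -/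
abbrev X : Type := Matrix (Fin 3) (Fin 3) F16 × Matrix (Fin 12) (Fin 12) (ZMod 5)

/-- The value of a pair of lists. -/
def val (p : Pr) : X :=
  (toMat F16.of 3 p.1, toMat (fun n : Nat => (n : ZMod 5)) 12 p.2)

/-- The shape of a pair. -/
def ok (p : Pr) : Bool := sq 3 p.1 && sq 12 p.2

/-- The product of two pairs. -/
def pmul (p r : Pr) : Pr := (mulL gadd gmul 3 p.1 r.1, mulL fadd fmul 12 p.2 r.2)

/-- The identity pair. -/
def pone : Pr := (oneL 3, oneL 12)

theorem ok_pone : ok pone = true := by decide +kernel

theorem val_pone : val pone = 1 :=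
  Prod.ext (toMat_oneL _ F16.of_zero rfl 3) (toMat_oneL _ Nat.cast_zero Nat.cast_one 12)

theorem val_pmul {p r : Pr} (hp : ok p = true) (hr : ok r = true) :
    ok (pmul p r) = true ∧ val (pmul p r) = val p * val r := by
  simp only [ok, Bool.and_eq_true] at hp hr ⊢
  have h3 := toMat_mulL F16.of F16.of_zero F16.of_gadd F16.of_gmul hp.1 hr.1
  have h12 := toMat_mulL (add := fadd) (mul := fmul) (fun n : Nat => (n : ZMod 5)) Nat.cast_zero
    (fun a b => by simp [fadd, ZMod.natCast_mod]) (fun a b => by simp [fmul, ZMod.natCast_mod])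
    hp.2 hr.2
  exact ⟨⟨h3.1, h12.1⟩, Prod.ext h3.2 h12.2⟩

/-- The product of a list of pairs. -/
def pprod : List Pr → Pr
  | [] => pone
  | [p] => p
  | p :: q :: l => pmul p (pprod (q :: l))

theorem val_pprod : ∀ l : List Pr, (∀ p ∈ l, ok p = true) →
    ok (pprod l) = true ∧ val (pprod l) = (l.map val).prod := by
  intro l
  induction l with
  | nil => intro _; simp [pprod, ok_pone, val_pone]
  | cons p l ih =>
    intro h
    cases l with
    | nil => simp [pprod, h p]
    | cons q l =>
      obtain ⟨h1, h2⟩ := ih fun x hx => h x (by simp [hx])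
      obtain ⟨h3, h4⟩ := val_pmul (h p (by simp)) h1
      exact ⟨h3, by simp [pprod, h4, h2]⟩

/-- A pair from a list. -/
def pget (L : List Pr) (i : Nat) : Pr := L.getD i pone

/-- Every entry is the first or a child of an earlier entry. -/
def chkPar (R gens : List Pr) (P : List (Nat × Nat)) : Bool :=
  (List.range R.length).all fun i =>
    if i = 0 then decide (pget R i = pone)
    else decide ((P.getD i (0, 0)).1 < i) &&
      decide (pmul (pget R (P.getD i (0, 0)).1) (pget gens (P.getD i (0, 0)).2) = pget R i)

/-- The closing equations of a level. -/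
def chkClose (lev : List (List Pr)) (R gens : List Pr) (C : List (List (List Nat × Nat))) : Bool :=
  (List.range R.length).all fun i => (List.range gens.length).all fun k =>
    let e := (C.getD i []).getD k ([], 0)
    decide (e.2 < R.length) && decide (e.1.length = lev.length) &&
      (List.zip lev e.1).all (fun x => decide (x.2 < x.1.length)) &&
      decide (pmul (pget R i) (pget gens k) =
        pmul (pprod ((List.zip lev e.1).map fun x => pget x.1 x.2)) (pget R e.2))

theorem mem_pget {L : List Pr} {i : Nat} (h : i < L.length) : pget L i ∈ L := by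
  rw [pget, List.getD_eq_getElem _ _ h]; exact List.getElem_mem h

theorem ok_pget {L : List Pr} (h : L.all ok = true) (i : Nat) : ok (pget L i) = true := by
  rcases lt_or_ge i L.length with hi | hi
  · exact List.all_eq_true.1 h _ (mem_pget hi)
  · rw [pget, List.getD_eq_default _ _ hi]; exact ok_pone

theorem val_mem_of_chkPar {R gens : List Pr} {P : List (Nat × Nat)} {M : Submonoid X}
    (hR : R.all ok = true) (hg : gens.all ok = true) (hM : ∀ g ∈ gens, val g ∈ M)
    (h : chkPar R gens P = true) : ∀ r ∈ R, val r ∈ M := by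
  have hget : ∀ i, val (pget gens i) ∈ M := fun i => by
    rcases lt_or_ge i gens.length with hi | hi
    · exact hM _ (mem_pget hi)
    · rw [pget, List.getD_eq_default _ _ hi, val_pone]; exact one_mem _
  have key : ∀ i, i < R.length → val (pget R i) ∈ M := by
    intro i
    induction i using Nat.strong_induction_on with
    | _ i ih =>
      intro hi
      have h1 := List.all_eq_true.1 h i (List.mem_range.2 hi)
      by_cases h0 : i = 0
      · rw [if_pos h0, decide_eq_true_eq] at h1
        rw [h1, val_pone]; exact one_mem _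
      · rw [if_neg h0] at h1
        simp only [Bool.and_eq_true, decide_eq_true_eq] at h1
        rw [← h1.2, (val_pmul (ok_pget hR _) (ok_pget hg _)).2]
        exact mul_mem (ih _ h1.1 (lt_trans h1.1 hi)) (hget _)
  intro r hr
  obtain ⟨i, hi, rfl⟩ := List.getElem_of_mem hr
  simpa [pget, List.getD_eq_getElem?_getD, hi] using key i hi

/-- One level: the monoid generated by `gens` is covered by `A * R`. -/
theorem level {lev : List (List Pr)} {R gens : List Pr} {C : List (List (List Nat × Nat))}
    {A : Submonoid X} (hlev : ∀ L ∈ lev, L.all ok = true ∧ ∀ p ∈ L, val p ∈ A)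
    (hR : R.all ok = true) (hg : gens.all ok = true) (hne : 0 < R.length)
    (h0 : pget R 0 = pone) (h : chkClose lev R gens C = true) :
    ∀ x ∈ Submonoid.closure {x | x ∈ gens.map val}, ∃ c ∈ A, ∃ r ∈ R, x = c * val r := by
  intro x hx
  induction hx using Submonoid.closure_induction_right with
  | one => exact ⟨1, one_mem _, pget R 0, mem_pget hne, by rw [h0, val_pone, one_mul]⟩
  | mul_right y _ g hg' ih =>
    obtain ⟨c, hc, r, hr, rfl⟩ := ih
    obtain ⟨g₀, hg₀, rfl⟩ := List.mem_map.1 hg'
    obtain ⟨i, hi, rfl⟩ := List.getElem_of_mem hr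
    obtain ⟨k, hk, rfl⟩ := List.getElem_of_mem hg₀
    have h1 := List.all_eq_true.1 (List.all_eq_true.1 h i (List.mem_range.2 hi)) k
      (List.mem_range.2 hk)
    simp only [Bool.and_eq_true, decide_eq_true_eq] at h1
    obtain ⟨⟨⟨hj, -⟩, hidx⟩, heq⟩ := h1
    have hmem : ∀ p ∈ ((List.zip lev ((C.getD i []).getD k ([], 0)).1).map fun x => pget x.1 x.2),
        ok p = true ∧ val p ∈ A := by
      intro p hp
      obtain ⟨⟨L, q⟩, hLq, rfl⟩ := List.mem_map.1 hp
      have hq : q < L.length := of_decide_eq_true (List.all_eq_true.1 hidx _ hLq)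
      exact ⟨ok_pget (hlev L (List.of_mem_zip hLq).1).1 _,
        (hlev L (List.of_mem_zip hLq).1).2 _ (mem_pget hq)⟩
    obtain ⟨hok, hval⟩ := val_pprod _ fun p hp => (hmem p hp).1
    have e := congrArg val heq
    rw [(val_pmul (ok_pget hR _) (ok_pget hg _)).2, (val_pmul hok (ok_pget hR _)).2, hval] at e
    refine ⟨c * (((List.zip lev ((C.getD i []).getD k ([], 0)).1).map
      fun x => pget x.1 x.2).map val).prod,
      mul_mem hc (Submonoid.list_prod_mem A fun z hz => ?_), _, mem_pget hj, ?_⟩
    · obtain ⟨p, hp, rfl⟩ := List.mem_map.1 hz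
      exact (hmem p hp).2
    · rw [mul_assoc, mul_assoc, ← e]
      simp [pget, List.getD_eq_getElem?_getD, hi, hk]

/-- A word in a list. -/
def pev (L : List Pr) (w : List Nat) : Pr := w.foldl (fun p l => pmul p (pget L l)) pone

theorem val_pev {L : List Pr} (hL : L.all ok = true) {M : Submonoid X} (hM : ∀ p ∈ L, val p ∈ M)
    (w : List Nat) : ok (pev L w) = true ∧ val (pev L w) ∈ M := by
  have hget : ∀ i, val (pget L i) ∈ M := fun i => by
    rcases lt_or_ge i L.length with hi | hi
    · exact hM _ (mem_pget hi)
    · rw [pget, List.getD_eq_default _ _ hi, val_pone]; exact one_mem _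
  have key : ∀ (w : List Nat) (p : Pr), ok p = true → val p ∈ M →
      ok (w.foldl (fun p l => pmul p (pget L l)) p) = true ∧
        val (w.foldl (fun p l => pmul p (pget L l)) p) ∈ M := by
    intro w
    induction w with
    | nil => exact fun p h1 h2 => ⟨h1, h2⟩
    | cons l w ih =>
      intro p h1 h2
      obtain ⟨h3, h4⟩ := val_pmul h1 (ok_pget hL l)
      exact ih _ h3 (h4 ▸ mul_mem h2 (hget l))
  exact key w pone ok_pone (val_pone ▸ one_mem M)

/-- The monoid generated by a list of pairs. -/
def gen (L : List Pr) : Submonoid X := Submonoid.closure {x | x ∈ L.map val}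

theorem val_mem_gen {L : List Pr} {p : Pr} (h : p ∈ L) : val p ∈ gen L :=
  Submonoid.subset_closure (List.mem_map.2 ⟨p, h, rfl⟩)

theorem all_take {L : List Pr} (h : L.all ok = true) (n : Nat) : (L.take n).all ok = true :=
  List.all_eq_true.2 fun p hp => List.all_eq_true.1 h p (List.mem_of_mem_take hp)

theorem gen_take_le (L : List Pr) {m n : Nat} (h : m ≤ n) : gen (L.take m) ≤ gen (L.take n) :=
  Submonoid.closure_mono fun _ hx => (List.map_subset _ (List.take_subset_take_left L h)) hx

end Cfsg.Agent.PrimeGraphU34
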