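import Cfsg.Prelude.Def_Classical
import Cfsg.Agent.Unitary.Special
import Cfsg.Agent.PrimeGraphU34.Cover

/-! The twelve-dimensional representation of `SU(3, 4)` modulo 5. -/

set_option autoImplicit false
set_option maxRecDepth 100000
set_option Elab.async false

namespace Cfsg.Agent.PrimeGraphU34

open Matrix

/-- The group. -/
abbrev U : Type := ↥(Cfsg.SU 3 F16 4)

/-- The matrix of a group element. -/
def mat : U →* Matrix (Fin 3) (Fin 3) F16 := (Cfsg.slToMat 3 F16).comp (Cfsg.SU 3 F16 4).subtype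

theorem mat_injective : Function.Injective mat := fun _ _ h => Subtype.ext (Subtype.ext h)

theorem herm_preserved (A : Matrix (Fin 3) (Fin 3) F16)
    (h : ∀ i j, ∑ k, A k i * A k j ^ 4 = if i = j then 1 else 0) (u v : Fin 3 → F16) :
    Cfsg.hermForm 3 F16 4 (A *ᵥ u) (A *ᵥ v) = Cfsg.hermForm 3 F16 4 u v := by
  have h00 := h 0 0; have h01 := h 0 1; have h02 := h 0 2
  have h10 := h 1 0; have h11 := h 1 1; have h12 := h 1 2
  have h20 := h 2 0; have h21 := h 2 1; have h22 := h 2 2
  simp [Fin.sum_univ_three] at h00 h01 h02 h10 h11 h12 h20 h21 h22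
  simp only [Cfsg.hermForm, Matrix.mulVec, dotProduct, Fin.sum_univ_three, F16.add_pow_four, mul_pow]
  linear_combination (u 0 * v 0 ^ 4) * h00 + (u 0 * v 1 ^ 4) * h01 + (u 0 * v 2 ^ 4) * h02 +
    (u 1 * v 0 ^ 4) * h10 + (u 1 * v 1 ^ 4) * h11 + (u 1 * v 2 ^ 4) * h12 +
    (u 2 * v 0 ^ 4) * h20 + (u 2 * v 1 ^ 4) * h21 + (u 2 * v 2 ^ 4) * h22

theorem gens_special : ∀ p ∈ topGens, (toMat F16.of 3 p.1).det = 1 ∧
    ∀ i j, ∑ k, toMat F16.of 3 p.1 k i * toMat F16.of 3 p.1 k j ^ 4 = if i = j then 1 else 0 := by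
  intro p hp
  simp only [topGens, List.mem_cons, List.not_mem_nil, or_false] at hp
  rcases hp with rfl | rfl <;>
    refine ⟨?_, by decide +kernel⟩ <;> rw [Matrix.det_fin_three] <;> decide +kernel

/-- The first components lie in the group. -/
theorem exists_mat {x : X} (hx : x ∈ M) : ∃ g : U, mat g = x.1 := by
  induction hx using Submonoid.closure_induction with
  | mem y hy =>
    obtain ⟨p, hp, rfl⟩ := List.mem_map.1 hy
    exact ⟨⟨⟨_, (gens_special p hp).1⟩, herm_preserved _ (gens_special p hp).2⟩, rfl⟩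
  | one => exact ⟨1, map_one mat⟩
  | mul y z _ _ hy hz =>
    obtain ⟨g, hg⟩ := hy
    obtain ⟨k, hk⟩ := hz
    exact ⟨g * k, by rw [map_mul, hg, hk, Prod.fst_mul]⟩

theorem cancel {x : X} (hx : x ∈ M) {A B : Matrix (Fin 3) (Fin 3) F16}
    (h : A * x.1 = B * x.1) : A = B := by
  obtain ⟨g, hg⟩ := exists_mat hx
  have : x.1 * mat g⁻¹ = 1 := by rw [← hg, ← map_mul, mul_inv_cancel, map_one]
  rw [← mul_one A, ← mul_one B, ← this, ← mul_assoc, ← mul_assoc, h]

/-- The image of the isotropic row. -/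
def fl3 (p : Pr) : List Nat := rowMul gadd gmul 3 fvec p.1

/-- The isotropic row. -/
def fV : Fin 3 → F16 := fun i => F16.of (fvec.getD i 0)

theorem fl3_eq {p : Pr} (hp : ok p = true) (j : Fin 3) :
    F16.of ((fl3 p).getD j 0) = (fV ᵥ* (val p).1) j := by
  have hs : sq 3 p.1 = true := by simp only [ok, Bool.and_eq_true] at hp; exact hp.1
  obtain ⟨h1, h2⟩ := sq_iff.1 hs
  rw [fl3, (rowMul_spec F16.of F16.of_zero F16.of_gadd F16.of_gmul 3 fvec p.1
    (by rw [h1]; decide) h2).2 j j.2]
  simp only [Matrix.vecMul, dotProduct, fV, val, toMat, Matrix.of_apply]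
  exact Fintype.sum_equiv (finCongr h1) _ _ fun i => rfl

/-- Some minor of two rows is nonzero. -/
def indep (v w : List Nat) : Bool :=
  [(0, 1), (0, 2), (1, 2)].any fun c =>
    decide (gadd (gmul (v.getD c.1 0) (w.getD c.2 0)) (gmul (v.getD c.2 0) (w.getD c.1 0)) % 16 ≠ 0)

theorem of_eq_zero {n : Nat} (h : F16.of n = 0) : n % 16 = 0 := congrArg (fun x : F16 => x.val.val) h

theorem of_inj {a b : Nat} (h : F16.of a = F16.of b) : a % 16 = b % 16 :=
  congrArg (fun x : F16 => x.val.val) h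

theorem not_indep {p r : Pr} (hp : ok p = true) (hr : ok r = true) {c : F16}
    (h : fV ᵥ* (val p).1 = c • (fV ᵥ* (val r).1)) : indep (fl3 p) (fl3 r) = false := by
  have key : ∀ i j : Fin 3, gadd (gmul ((fl3 p).getD i 0) ((fl3 r).getD j 0))
      (gmul ((fl3 p).getD j 0) ((fl3 r).getD i 0)) % 16 = 0 := by
    intro i j
    apply of_eq_zero
    rw [F16.of_gadd, F16.of_gmul, F16.of_gmul, fl3_eq hp, fl3_eq hp, fl3_eq hr, fl3_eq hr, h,
      Pi.smul_apply, Pi.smul_apply, smul_eq_mul, smul_eq_mul]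
    generalize (fV ᵥ* (val r).1) i = a
    generalize (fV ᵥ* (val r).1) j = b
    rw [show c * a * b = c * b * a by ring]
    have two : ∀ x : F16, x + x = 0 := by decide +kernel
    exact two _
  rw [indep, List.any_eq_false]
  intro q hq
  simp only [List.mem_cons, List.not_mem_nil, or_false] at hq
  rcases hq with rfl | rfl | rfl
  · simpa using key 0 1
  · simpa using key 0 2
  · simpa using key 1 2

/-- Reduced rows. -/
def red (A : List (List Nat)) : List (List Nat) := A.map (List.map (· % 16))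

theorem red_eq {A B : List (List Nat)} (hA : sq 3 A = true) (hB : sq 3 B = true)
    (h : toMat F16.of 3 A = toMat F16.of 3 B) : red A = red B := by
  obtain ⟨a1, a2⟩ := sq_iff.1 hA
  obtain ⟨b1, b2⟩ := sq_iff.1 hB
  refine List.ext_getElem (by simp [red, a1, b1]) fun i hi hi' => ?_
  simp only [red, List.length_map] at hi hi'
  refine List.ext_getElem (by simp [red, a2 _ (List.getElem_mem hi), b2 _ (List.getElem_mem hi')])
    fun j hj hj' => ?_
  simp only [red, List.getElem_map, List.length_map] at hj hj' ⊢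
  have e := of_inj (congrFun (congrFun h ⟨i, a1 ▸ hi⟩) ⟨j, a2 _ (List.getElem_mem hi) ▸ hj⟩)
  simpa [List.getD_eq_getElem?_getD, hi, hi', hj, hj'] using e

theorem fix01 : ∀ p ∈ R0 ++ R1, fl3 p = fvec := by decide +kernel

theorem scal2 : ∀ p ∈ R2, ∃ c ∈ List.range 16, c ≠ 0 ∧ fl3 p = fvec.map (gmul c) := by
  decide +kernel

theorem R2_nodup : (R2.map fun p => (fl3 p).map (· % 16)).Nodup := by decide +kernel

theorem R01_nodup :
    ((R0.product R1).map fun p => red (mulL gadd gmul 3 p.1.1 p.2.1)).Nodup := by decide +kernel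

theorem R3_indep : R3.Pairwise fun p r => indep (fl3 p) (fl3 r) = true := by decide +kernel

theorem fvec_len : ∀ c, (fvec.map (gmul c)).length = 3 := fun c => by simp [fvec]

theorem vec_R01 {p : Pr} (hp : p ∈ R0 ++ R1) : fV ᵥ* (val p).1 = fV := by
  funext j
  have hok : ok p = true := by
    rcases List.mem_append.1 hp with h | h
    exacts [List.all_eq_true.1 ok_R0 _ h, List.all_eq_true.1 ok_R1 _ h]
  rw [← fl3_eq hok, fix01 p hp]
  rfl

theorem vec_R2 {p : Pr} (hp : p ∈ R2) : ∃ c : F16, c ≠ 0 ∧ fV ᵥ* (val p).1 = c • fV := by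
  obtain ⟨c, hc, hc0, e⟩ := scal2 p hp
  refine ⟨F16.of c, fun h => hc0 ?_, ?_⟩
  · have h1 := of_eq_zero h
    have := List.mem_range.1 hc
    omega
  funext j
  rw [← fl3_eq (List.all_eq_true.1 ok_R2 _ hp), e, Pi.smul_apply, smul_eq_mul, fV, ← F16.of_gmul]
  congr 1
  have hj : (j : Nat) < fvec.length := lt_of_lt_of_eq j.2 (by decide)
  simp [List.getD_eq_getElem?_getD, hj]

/-- The first component determines the factors. -/
theorem uniq {i i' j j' k k' l l' : Pr} (hi : i ∈ R0) (hi' : i' ∈ R0) (hj : j ∈ R1) (hj' : j' ∈ R1)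
    (hk : k ∈ R2) (hk' : k' ∈ R2) (hl : l ∈ R3) (hl' : l' ∈ R3)
    (h : (val i * val j * val k * val l).1 = (val i' * val j' * val k' * val l').1) :
    i = i' ∧ j = j' ∧ k = k' ∧ l = l' := by
  simp only [Prod.fst_mul] at h
  have m : ∀ {r}, r ∈ R0 ++ R1 ++ R2 ++ R3 → val r ∈ M := fun hr => R_mem _ hr
  obtain ⟨c, hc, ek⟩ := vec_R2 hk
  obtain ⟨c', hc', ek'⟩ := vec_R2 hk'
  have hv := congrArg (fV ᵥ* ·) h
  simp only [← Matrix.vecMul_vecMul, vec_R01 (List.mem_append_left R1 hi),
    vec_R01 (List.mem_append_left R1 hi'), vec_R01 (List.mem_append_right R0 hj),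
    vec_R01 (List.mem_append_right R0 hj'), ek, ek', Matrix.smul_vecMul] at hv
  have el : l = l' := by
    by_contra hne
    have h1 : fV ᵥ* (val l).1 = (c⁻¹ * c') • (fV ᵥ* (val l').1) := by
      rw [mul_smul, ← hv, inv_smul_smul₀ hc]
    have h2 : fV ᵥ* (val l').1 = (c'⁻¹ * c) • (fV ᵥ* (val l).1) := by
      rw [mul_smul, hv, inv_smul_smul₀ hc']
    have hok := fun {r} (hr : r ∈ R3) => List.all_eq_true.1 ok_R3 r hr
    obtain ⟨a, ha, rfl⟩ := List.getElem_of_mem hl
    obtain ⟨b, hb, rfl⟩ := List.getElem_of_mem hl'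
    rcases lt_trichotomy a b with hab | hab | hab
    · exact absurd (List.pairwise_iff_getElem.1 R3_indep a b ha hb hab)
        (by rw [not_indep (hok hl) (hok hl') h1]; simp)
    · exact hne (by subst hab; rfl)
    · exact absurd (List.pairwise_iff_getElem.1 R3_indep b a hb ha hab)
        (by rw [not_indep (hok hl') (hok hl) h2]; simp)
  subst el
  have h1 := cancel (m (List.mem_append_right _ hl)) h
  have hv1 := congrArg (fV ᵥ* ·) h1
  simp only [← Matrix.vecMul_vecMul, vec_R01 (List.mem_append_left R1 hi),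
    vec_R01 (List.mem_append_left R1 hi'), vec_R01 (List.mem_append_right R0 hj),
    vec_R01 (List.mem_append_right R0 hj')] at hv1
  have ek2 : k = k' := by
    refine List.inj_on_of_nodup_map R2_nodup hk hk' ?_
    have okk := List.all_eq_true.1 ok_R2
    have hlen : ∀ p ∈ R2, (fl3 p).length = 3 := fun p hp => by
      obtain ⟨c, -, -, e⟩ := scal2 p hp
      rw [e, fvec_len]
    refine List.ext_getElem (by simp [hlen k hk, hlen k' hk']) fun t ht ht' => ?_
    simp only [List.getElem_map, List.length_map] at ht ht' ⊢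
    have h3 : t < 3 := hlen k hk ▸ ht
    have e := congrFun hv1 ⟨t, h3⟩
    rw [← fl3_eq (okk k hk), ← fl3_eq (okk k' hk')] at e
    simpa [List.getD_eq_getElem?_getD, ht, ht'] using of_inj e
  subst ek2
  have h2 := cancel (m (List.mem_append_left R3 (List.mem_append_right _ hk))) h1
  have o0 := List.all_eq_true.1 ok_R0
  have o1 := List.all_eq_true.1 ok_R1
  have hs : ∀ {p : Pr}, ok p = true → sq 3 p.1 = true := fun {p} hp => by
    simp only [ok, Bool.and_eq_true] at hp; exact hp.1
  have e1 := toMat_mulL F16.of F16.of_zero F16.of_gadd F16.of_gmul (hs (o0 i hi)) (hs (o1 j hj))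
  have e2 := toMat_mulL F16.of F16.of_zero F16.of_gadd F16.of_gmul (hs (o0 i' hi')) (hs (o1 j' hj'))
  have e3 : red (mulL gadd gmul 3 i.1 j.1) = red (mulL gadd gmul 3 i'.1 j'.1) :=
    red_eq e1.1 e2.1 (by rw [e1.2, e2.2]; exact h2)
  have e4 : (i, j) = (i', j') := List.inj_on_of_nodup_map R01_nodup
    (List.pair_mem_product.2 ⟨hi, hj⟩) (List.pair_mem_product.2 ⟨hi', hj'⟩) e3
  simp only [Prod.mk.injEq] at e4
  exact ⟨e4.1, e4.2, rfl, rfl⟩

theorem card_U : Nat.card U = 62400 := by
  have hF : Nat.card F16 = 4 ^ 2 := by rw [Nat.card_eq_fintype_card, F16.card_eq]; norm_num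
  have h1 := CfsgLib.Unitary.card_SU_mul (F := F16) (q := 4) hF (n := 3) (by norm_num)
  rw [CfsgLib.Unitary.card_GU hF] at h1
  rw [show (4 ^ (3 * (3 - 1) / 2) * ∏ i ∈ Finset.range 3,
    (if Even i then 4 ^ (i + 1) + 1 else 4 ^ (i + 1) - 1) : ℕ) = 312000 by decide] at h1
  show Nat.card ↥(Cfsg.SU 3 F16 4) = 62400
  omega

/-- The element of the group below a certified pair. -/
noncomputable def toU (x : M) : U := (exists_mat x.2).choose

theorem mat_toU (x : M) : mat (toU x) = x.1.1 := (exists_mat x.2).choose_spec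

theorem toU_injective : Function.Injective toU := by
  intro x y h
  have h1 : x.1.1 = y.1.1 := by rw [← mat_toU, ← mat_toU, h]
  obtain ⟨i, hi, j, hj, k, hk, l, hl, ex⟩ := M_cover x.1 x.2
  obtain ⟨i', hi', j', hj', k', hk', l', hl', ey⟩ := M_cover y.1 y.2
  obtain ⟨rfl, rfl, rfl, rfl⟩ := uniq hi hi' hj hj' hk hk' hl hl' (ex ▸ ey ▸ h1)
  exact Subtype.ext (ex.trans ey.symm)

theorem lens : R0.length = 4 ∧ R1.length = 16 ∧ R2.length = 15 ∧ R3.length = 65 ∧
    (R0.map Prod.fst).Nodup ∧ (R1.map Prod.fst).Nodup := by decide +kernel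

theorem toU_bijective : Function.Bijective toU := by
  haveI : Finite M := Finite.of_injective toU toU_injective
  refine toU_injective.bijective_of_nat_card_le ?_
  obtain ⟨l0, l1, l2, l3, n0, n1⟩ := lens
  let T := Fin R0.length × Fin R1.length × Fin R2.length × Fin R3.length
  let f : T → M := fun t => ⟨val R0[t.1] * val R1[t.2.1] * val R2[t.2.2.1] * val R3[t.2.2.2],
    mul_mem (mul_mem (mul_mem (R_mem _ (by simp)) (R_mem _ (by simp))) (R_mem _ (by simp)))
      (R_mem _ (by simp))⟩
  have hf : Function.Injective f := by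
    intro s t h
    obtain ⟨e0, e1, e2, e3⟩ := uniq (List.getElem_mem _) (List.getElem_mem _) (List.getElem_mem _)
      (List.getElem_mem _) (List.getElem_mem _) (List.getElem_mem _) (List.getElem_mem _)
      (List.getElem_mem _) (congrArg (fun x : M => x.1.1) h)
    have d3 : R3.Nodup := List.Nodup.of_map fl3 (show (R3.map fl3).Nodup by decide +kernel)
    refine Prod.ext ?_ (Prod.ext ?_ (Prod.ext ?_ ?_))
    · exact Fin.ext ((n0.of_map _).getElem_inj_iff.1 e0)
    · exact Fin.ext ((n1.of_map _).getElem_inj_iff.1 e1)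
    · exact Fin.ext ((R2_nodup.of_map _).getElem_inj_iff.1 e2)
    · exact Fin.ext (d3.getElem_inj_iff.1 e3)
  refine le_trans (le_of_eq ?_) (Nat.card_le_card_of_injective f hf)
  rw [card_U]
  simp [T, Nat.card_prod, l0, l1, l2, l3]

/-- The certified pairs form the group. -/
noncomputable def e : M ≃* U :=
  MulEquiv.ofBijective (MonoidHom.mk' toU fun x y => mat_injective (by
    rw [map_mul, mat_toU, mat_toU, mat_toU]; rfl)) toU_bijective

theorem mat_e (x : M) : mat (e x) = x.1.1 := mat_toU x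

/-- The representation. -/
noncomputable def ψ : U →* GL (Fin 12) (ZMod 5) :=
  MonoidHom.toHomUnits (((MonoidHom.snd _ _).comp M.subtype).comp e.symm.toMonoidHom)

theorem ψ_val (x : M) : (ψ (e x)).val = x.1.2 := by simp [ψ, MonoidHom.toHomUnits]

/-- The element of a word. -/
noncomputable def elt (w : List Nat) : U :=
  e ⟨val (pev topGens w), (val_pev ok_topGens (fun p hp => val_mem_gen hp) w).2⟩

theorem elt_pow (w : List Nat) (k : Nat) :
    elt w ^ k = 1 ↔ toMat F16.of 3 (pev topGens w).1 ^ k = 1 := by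
  rw [← mat_injective.eq_iff, map_pow, map_one, elt, mat_e]
  rfl

theorem orderOf_ten : orderOf (elt w10) = 10 := by
  rw [orderOf_eq_iff (by norm_num)]
  refine ⟨(elt_pow _ _).2 (by decide +kernel), fun m hm hm0 => ?_⟩
  rw [Ne, elt_pow]
  interval_cases m <;> decide +kernel

theorem orderOf_fifteen : orderOf (elt w15) = 15 := by
  rw [orderOf_eq_iff (by norm_num)]
  refine ⟨(elt_pow _ _).2 (by decide +kernel), fun m hm hm0 => ?_⟩
  rw [Ne, elt_pow]
  interval_cases m <;> decide +kernel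

theorem orderOf_thirteen : orderOf (elt w13) = 13 := by
  haveI : Fact (Nat.Prime 13) := ⟨by norm_num⟩
  exact orderOf_eq_prime ((elt_pow _ _).2 (by decide +kernel))
    fun h => absurd ((elt_pow w13 1).1 (by rw [pow_one]; exact h)) (by decide +kernel)

/-- The matrix with `1` subtracted. -/
def sub1 (A : List (List Nat)) : List (List Nat) :=
  (List.range 12).map fun i => (List.range 12).map fun j =>
    ((A.getD i []).getD j 0 + if i = j then 4 else 0) % 5

theorem d13_check : sq 12 d13 = true ∧ sq 12 (sub1 (pev topGens w13).2) = true ∧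
    mulL fadd fmul 12 d13 (sub1 (pev topGens w13).2) = oneL 12 := by decide +kernel

theorem inv_sub_one : toMat (fun n : Nat => (n : ZMod 5)) 12 d13 * ((ψ (elt w13)).val - 1) = 1 := by
  obtain ⟨h1, h2, h3⟩ := d13_check
  have h4 := (toMat_mulL (add := fadd) (mul := fmul) (fun n : Nat => (n : ZMod 5)) Nat.cast_zero
    (fun a b => by simp [fadd, ZMod.natCast_mod]) (fun a b => by simp [fmul, ZMod.natCast_mod])
    h1 h2).2
  rw [h3, toMat_oneL _ Nat.cast_zero Nat.cast_one] at h4
  refine Eq.trans ?_ h4.symm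
  congr 1
  ext i j
  have h4' : ((4 : Nat) : ZMod 5) = -1 := by decide
  rw [elt, ψ_val, Matrix.sub_apply]
  simp only [val, toMat, Matrix.of_apply, sub1, Matrix.one_apply]
  simp only [List.getD_eq_getElem?_getD, List.getElem?_map, List.getElem?_range i.2,
    List.getElem?_range j.2, Option.map_some, Option.getD_some, ZMod.natCast_mod, Nat.cast_add,
    apply_ite ((↑·) : Nat → ZMod 5), h4', Nat.cast_zero]
  by_cases hij : i = j
  · subst hij; simp [sub_eq_add_neg]
  · simp [hij]
    exact fun h => absurd (Fin.ext h) hij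

end Cfsg.Agent.PrimeGraphU34
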